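import Cfsg.Agent.Lib.Coprime.Generation

/-!
# An elementary abelian group of transvections transitive on its non-identity elements

`B` of order `2 ^ n` (`n ≥ 2`) acts on the elementary abelian `W`, `|W| = 4 ^ n`, trivially on `U` and
`W/U`, `C_W(B) = U`, `|U| = 2 ^ n`. A group `L` normalising `B` and `U` is transitive on `B#` and on
`U#`, and `B` normalises an odd order group it does not centralise. This is impossible.
-/

set_option autoImplicit false
set_option linter.style.haveILetI false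

namespace Cfsg.Agent.TwoLength

open Subgroup
open scoped commutatorElement

theorem eq_one_or_eq_of_mem_zpowers {G : Type*} [Group G] {u v : G} (h : v ∈ zpowers u)
    (h2 : u * u = 1) : v = 1 ∨ v = u := by
  obtain ⟨i, rfl⟩ := mem_zpowers_iff.1 h
  have h3 : u ^ (2 : ℤ) = 1 := by rw [zpow_two, h2]
  rcases Int.even_or_odd i with ⟨m, rfl⟩ | ⟨m, rfl⟩
  · left; rw [← two_mul, zpow_mul, h3, one_zpow]
  · right; rw [zpow_add, zpow_mul, h3, one_zpow, one_mul, zpow_one]

set_option maxHeartbeats 400000 in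
theorem no_config {W : Type*} [CommGroup W] [Finite W] (U : Subgroup W) (B K L : Subgroup (MulAut W))
    {n : ℕ} (hn : 2 ≤ n) (hW : ∀ w : W, w * w = 1) (hU : Nat.card U = 2 ^ n) (hidx : U.index = 2 ^ n)
    (hBU : ∀ b ∈ B, ∀ u ∈ U, b u = u) (hfix : ∀ w, (∀ b ∈ B, b w = w) → w ∈ U)
    (hBW : ∀ b ∈ B, ∀ w, w⁻¹ * b w ∈ U) (hB : Nat.card B = 2 ^ n)
    (hLU : ∀ g ∈ L, ∀ u ∈ U, g u ∈ U) (hLB : ∀ g ∈ L, ∀ b ∈ B, g * b * g⁻¹ ∈ B)
    (hBtr : ∀ a ∈ B, ∀ b ∈ B, a ≠ 1 → b ≠ 1 → ∃ g ∈ L, g * a * g⁻¹ = b)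
    (hUtr : ∀ u ∈ U, ∀ v ∈ U, u ≠ 1 → v ≠ 1 → ∃ g ∈ L, g u = v)
    (hBK : B ≤ normalizer (K : Set (MulAut W))) (hK : Odd (Nat.card K))
    (hne : ¬ B ≤ centralizer (K : Set (MulAut W))) : False := by
  classical
  haveI : Finite (MulAut W) := inferInstance
  have hcomp : ∀ a ∈ B, ∀ b ∈ B, ∀ w, (a * b) w = w * (w⁻¹ * a w) * (w⁻¹ * b w) := by
    intro a ha b hb w
    rw [MulAut.mul_apply]
    conv_lhs => rw [show b w = w * (w⁻¹ * b w) by group]
    rw [map_mul, hBU a ha _ (hBW b hb w), mul_inv_cancel_left w (a w)]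
  haveI : IsMulCommutative B := ⟨⟨fun a b => Subtype.ext (MulEquiv.ext fun w => by
    show ((a : MulAut W) * b) w = ((b : MulAut W) * a) w
    rw [hcomp a a.2 b b.2, hcomp b b.2 a a.2, mul_right_comm])⟩⟩
  have hB2 : ∀ b ∈ B, b * b = 1 := fun b hb => MulEquiv.ext fun w => by
    rw [hcomp b hb b hb, mul_assoc, hW, mul_one, MulAut.one_apply]
  have hcop : (Nat.card B).Coprime (Nat.card K) := by
    rw [hB]; exact (Nat.coprime_two_left.2 hK).pow_left n
  obtain ⟨H₀, hH₀, hf₀⟩ : ∃ H ≤ B, (∃ a ∈ B, H ⊔ zpowers a = B) ∧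
      ∃ f ∈ K ⊓ centralizer (H : Set (MulAut W)), f ∉ centralizer (B : Set (MulAut W)) := by
    by_contra hno
    push Not at hno
    exact hne (le_centralizer_iff.1 (Coprime.le_of_forall_cyclic_quotient hBK hcop
      fun H hH ⟨a, ha, he⟩ => hno H hH ⟨a, ha, he⟩))
  set Good : Set (Subgroup (MulAut W)) := {H | H ≤ B ∧ (∃ a ∈ B, H ⊔ zpowers a = B) ∧
    ∃ w ∉ U, ∀ h ∈ H, h w = w} with hGood
  have hH₀G : H₀ ∈ Good := by
    obtain ⟨hgen, f, hf, hfB⟩ := hf₀
    refine ⟨hH₀, hgen, ?_⟩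
    obtain ⟨b, hb, hbf⟩ : ∃ b ∈ B, b * f ≠ f * b := by
      by_contra hc
      push Not at hc
      exact hfB (mem_centralizer_iff.2 hc)
    obtain ⟨u, hu, hfu⟩ : ∃ u ∈ U, f u ∉ U := by
      by_contra hall
      push Not at hall
      apply hbf
      set c := f * b * f⁻¹ * b⁻¹ with hc
      have hinj : Function.Injective (fun u : U => (⟨f u, hall u u.2⟩ : U)) := fun u v h =>
        Subtype.ext (f.injective (congrArg Subtype.val h))
      have hfsymm : ∀ u ∈ U, f⁻¹ u ∈ U := fun u hu => by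
        obtain ⟨v, hv⟩ := (Finite.injective_iff_surjective.1 hinj) ⟨u, hu⟩
        have hv' : f v = u := congrArg Subtype.val hv
        rw [← hv', MulAut.inv_apply_self]
        exact v.2
      have hcK : c ∈ K := by
        rw [hc, show f * b * f⁻¹ * b⁻¹ = f * (b * f⁻¹ * b⁻¹) by group]
        exact mul_mem hf.1 ((mem_normalizer_iff.1 (hBK hb) _).1 (inv_mem hf.1))
      have hcU : ∀ u ∈ U, c u = u := by
        intro u hu
        show f (b (f⁻¹ (b⁻¹ u))) = u
        rw [hBU b⁻¹ (inv_mem hb) u hu, hBU b hb _ (hfsymm u hu), MulAut.apply_inv_self]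
      have hcW : ∀ w, w⁻¹ * c w ∈ U := by
        intro w
        show w⁻¹ * f (b (f⁻¹ (b⁻¹ w))) ∈ U
        set w' := f⁻¹ (b⁻¹ w) with hw'
        have h1 : b w' = w' * (w'⁻¹ * b w') := by group
        rw [h1, map_mul, hw', MulAut.apply_inv_self]
        rw [← mul_assoc]
        exact mul_mem (hBW _ (inv_mem hb) w) (hall _ (hBW b hb _))
      have hc2 : c ^ 2 = 1 := MulEquiv.ext fun w => by
        obtain ⟨d, hd, h1⟩ : ∃ d ∈ U, c w = w * d := ⟨_, hcW w, by group⟩
        rw [pow_two, MulAut.mul_apply, MulAut.one_apply, h1, map_mul, hcU d hd, h1, mul_assoc, hW,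
          mul_one]
      have hc1 : c = 1 := by
        have h1 : (⟨c, hcK⟩ : K) ^ 2 = 1 := Subtype.ext hc2
        have := Nat.eq_one_of_dvd_coprimes (Nat.coprime_two_left.2 hK)
          (orderOf_dvd_of_pow_eq_one h1) (orderOf_dvd_natCard _)
        exact congrArg Subtype.val (orderOf_eq_one_iff.1 this)
      rw [hc, mul_inv_eq_one, mul_inv_eq_iff_eq_mul] at hc1
      exact hc1.symm
    refine ⟨f u, hfu, fun h hh => ?_⟩
    have := mem_centralizer_iff.1 hf.2 h hh
    calc h (f u) = (h * f) u := rfl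
      _ = (f * h) u := by rw [this]
      _ = f u := by rw [MulAut.mul_apply, hBU h (hH₀ hh) u hu]
  -- the intersection of the good hyperplanes
  have hLgood : ∀ g ∈ L, ∀ H ∈ Good, H.map (MulAut.conj g).toMonoidHom ∈ Good := by
    intro g hg H ⟨hHB, ⟨a, ha, hgen⟩, w, hw, hfixw⟩
    have hgB : B.map (MulAut.conj g).toMonoidHom = B := by
      refine le_antisymm ?_ fun b hb => ⟨g⁻¹ * b * g, ?_, ?_⟩
      · rintro _ ⟨b, hb, rfl⟩; exact hLB g hg b hb
      · simpa using hLB g⁻¹ (inv_mem hg) b hb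
      · show g * (g⁻¹ * b * g) * g⁻¹ = b
        group
    refine ⟨(map_mono hHB).trans hgB.le, ⟨g * a * g⁻¹, hLB g hg a ha, ?_⟩, g w, fun hc => hw ?_, ?_⟩
    · conv_rhs => rw [← hgB, ← hgen, Subgroup.map_sup, MonoidHom.map_zpowers]
      rfl
    · have := hLU g⁻¹ (inv_mem hg) _ hc
      rwa [MulAut.inv_apply_self] at this
    · rintro _ ⟨h, hh, rfl⟩
      show g (h (g⁻¹ (g w))) = g w
      rw [MulAut.inv_apply_self, hfixw h hh]
  have hproper : ∀ H ∈ Good, H ≠ B := by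
    rintro H ⟨-, -, w, hw, hfixw⟩ rfl
    exact hw (hfix w hfixw)
  have hinter : ∀ d ∈ B, (∀ H ∈ Good, d ∈ H) → d = 1 := by
    intro d hd hall
    by_contra hd1
    refine hproper H₀ hH₀G (le_antisymm hH₀ fun b hb => ?_)
    by_cases hb1 : b = 1
    · rw [hb1]; exact one_mem _
    obtain ⟨g, hg, rfl⟩ := hBtr d hd b hb hd1 hb1
    obtain ⟨x, hx, hxe⟩ := hall _ (hLgood g⁻¹ (inv_mem hg) H₀ hH₀G)
    have h1 : g⁻¹ * x * g = d := by simpa using hxe
    rw [← h1, show g * (g⁻¹ * x * g) * g⁻¹ = x by group]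
    exact hx
  haveI := Fintype.ofFinite (Subgroup (MulAut W))
  let cand : Finset (Finset (Subgroup (MulAut W))) := Finset.univ.filter fun S =>
    (∀ H ∈ S, H ∈ Good) ∧ ∀ d ∈ B, (∀ H ∈ S, d ∈ H) → d = 1
  obtain ⟨S, hScand, hSmin⟩ := Finset.exists_min_image cand Finset.card
    ⟨Finset.univ.filter (· ∈ Good), by simpa [cand] using hinter⟩
  obtain ⟨hSG, hS1⟩ : (∀ H ∈ S, H ∈ Good) ∧ ∀ d ∈ B, (∀ H ∈ S, d ∈ H) → d = 1 := by
    simpa [cand] using hScand
  have hdec : ∀ H ∈ S, ∀ e ∈ B, e ∉ H → ∀ b ∈ B, b ∉ H → e⁻¹ * b ∈ H := by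
    intro H hH e he heH b hb hbH
    obtain ⟨hHB, ⟨a, ha, hgen⟩, -⟩ := hSG H hH
    have hnorm : zpowers a ≤ normalizer (H : Set (MulAut W)) := by
      rw [zpowers_le, mem_normalizer_iff]
      have hcomm : ∀ x ∈ B, a * x * a⁻¹ = x := fun x hx => by
        rw [show a * x = x * a from congrArg Subtype.val
          (mul_comm' (⟨a, ha⟩ : B) ⟨x, hx⟩), mul_inv_cancel_right]
      refine fun x => ⟨fun hx => (hcomm x (hHB hx)).symm ▸ hx, fun hx => ?_⟩
      have : x ∈ B := by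
        have := mul_mem (mul_mem (inv_mem ha) (hHB hx)) ha
        rwa [show a⁻¹ * (a * x * a⁻¹) * a = x by group] at this
      rwa [hcomm x this] at hx
    have hmem : ∀ x ∈ B, x ∉ H → a * x ∈ H := by
      intro x hx hxH
      rw [← hgen, ← SetLike.mem_coe, coe_mul_of_right_le_normalizer_left H (zpowers a) hnorm] at hx
      obtain ⟨h, hh, z, hz, rfl⟩ := hx
      obtain ⟨i, rfl⟩ := hz
      rcases Int.even_or_odd i with ⟨m, rfl⟩ | ⟨m, rfl⟩
      · exact absurd (by
          show h * a ^ (m + m) ∈ H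
          rw [← two_mul, zpow_mul, zpow_two, hB2 a ha, one_zpow, mul_one]; exact hh) hxH
      · show a * (h * a ^ (2 * m + 1)) ∈ H
        rw [zpow_add, zpow_mul, zpow_two, hB2 a ha, one_zpow, one_mul, zpow_one,
          show h * a = a * h from congrArg Subtype.val (mul_comm' (⟨h, hHB hh⟩ : B) ⟨a, ha⟩),
          ← mul_assoc, hB2 a ha, one_mul]
        exact hh
    have h1 := mul_mem (inv_mem (hmem e he heH)) (hmem b hb hbH)
    rwa [show (a * e)⁻¹ * (a * b) = e⁻¹ * b by group] at h1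
  have hw : ∀ H ∈ S, ∃ w ∉ U, ∀ h ∈ H, h w = w := fun H hH => (hSG H hH).2.2
  choose! w hwU hwfix using hw
  have he : ∀ H ∈ S, ∃ e ∈ B, e ∉ H ∧ ∀ K' ∈ S, K' ≠ H → e ∈ K' := by
    intro H hH
    have hnot : S.erase H ∉ cand := fun hc => by
      have := hSmin _ hc
      rw [Finset.card_erase_of_mem hH] at this
      have := Finset.card_pos.2 ⟨H, hH⟩
      omega
    simp only [cand, Finset.mem_filter, Finset.mem_univ, true_and, not_and, not_forall] at hnot
    obtain ⟨d, hd, hall, hd1⟩ := hnot (fun K' hK' => hSG K' (Finset.mem_of_mem_erase hK'))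
    refine ⟨d, hd, fun hdH => hd1 (hS1 d hd fun K' hK' => ?_),
      fun K' hK' hne' => hall K' (Finset.mem_erase.2 ⟨hne', hK'⟩)⟩
    by_cases h : K' = H
    · exact h ▸ hdH
    · exact hall K' (Finset.mem_erase.2 ⟨h, hK'⟩)
  choose! e heB heH heO using he
  let δ : MulAut W → W → W := fun b x => x⁻¹ * b x
  have hδmul : ∀ b x y, δ b (x * y) = δ b x * δ b y := fun b x y => by
    show (x * y)⁻¹ * b (x * y) = (x⁻¹ * b x) * (y⁻¹ * b y)
    rw [map_mul, mul_inv]; exact mul_mul_mul_comm _ _ _ _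
  have hδU : ∀ b ∈ B, ∀ u ∈ U, δ b u = 1 := fun b hb u hu => by
    show u⁻¹ * b u = 1
    rw [hBU b hb u hu, inv_mul_cancel]
  have hδfix : ∀ H ∈ S, ∀ h ∈ H, δ h (w H) = 1 := fun H hH h hh => by
    show (w H)⁻¹ * h (w H) = 1
    rw [hwfix H hH h hh, inv_mul_cancel]
  set u : Subgroup (MulAut W) → W := fun H => δ (e H) (w H) with hu
  have hδw : ∀ H ∈ S, ∀ b ∈ B, δ b (w H) = if b ∈ H then 1 else u H := by
    intro H hH b hb
    split_ifs with hbH
    · exact hδfix H hH b hbH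
    · have h1 := hdec H hH (e H) (heB H hH) (heH H hH) b hb hbH
      show (w H)⁻¹ * b (w H) = (w H)⁻¹ * e H (w H)
      conv_lhs => rw [show b = e H * ((e H)⁻¹ * b) by group, MulAut.mul_apply, hwfix H hH _ h1]
  have hu1 : ∀ H ∈ S, u H ≠ 1 := by
    intro H hH hu1
    refine hwU H hH (hfix _ fun b hb => ?_)
    have := hδw H hH b hb
    rw [hu1, ite_self] at this
    exact (inv_mul_eq_one.1 this).symm
  have hδprod : ∀ b, ∀ T : Finset (Subgroup (MulAut W)),
      δ b (∏ H ∈ T, w H) = ∏ H ∈ T, δ b (w H) := by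
    intro b T
    exact map_prod (MonoidHom.mk' (δ b) (hδmul b)) w T
  have hval : ∀ T ⊆ S, ∀ H ∈ S, δ (e H) (∏ K' ∈ T, w K') = if H ∈ T then u H else 1 := by
    intro T hT H hH
    rw [hδprod]
    split_ifs with hHT
    · rw [Finset.prod_eq_single H (fun K' hK' hne' =>
        hδfix K' (hT hK') _ (heO H hH K' (hT hK') hne')) (fun h => absurd hHT h)]
    · exact Finset.prod_eq_one fun K' hK' =>
        hδfix K' (hT hK') _ (heO H hH K' (hT hK') fun h => hHT (h ▸ hK'))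
  -- the `w H` form a basis modulo `U`
  let F : S.powerset → W ⧸ U := fun T => ((∏ H ∈ (T : Finset _), w H : W) : W ⧸ U)
  have hF : Function.Injective F := by
    rintro ⟨T₁, h₁⟩ ⟨T₂, h₂⟩ h
    rw [Finset.mem_powerset] at h₁ h₂
    have hmem := QuotientGroup.eq.1 h
    refine Subtype.ext (Finset.ext fun H => ?_)
    have key : ∀ H ∈ S, (H ∈ T₁ ↔ H ∈ T₂) := by
      intro H hH
      have h3 := hδU (e H) (heB H hH) _ hmem
      have hinv : ∀ x, δ (e H) x⁻¹ = (δ (e H) x)⁻¹ := fun x =>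
        map_inv (MonoidHom.mk' (δ (e H)) (hδmul _)) x
      rw [hδmul, hinv, hval T₁ h₁ H hH, hval T₂ h₂ H hH, inv_mul_eq_one] at h3
      by_cases ha : H ∈ T₁ <;> by_cases hb : H ∈ T₂
      · exact iff_of_true ha hb
      · rw [if_pos ha, if_neg hb] at h3
        exact absurd h3 (hu1 H hH)
      · rw [if_neg ha, if_pos hb] at h3
        exact absurd h3.symm (hu1 H hH)
      · exact iff_of_false ha hb
    exact ⟨fun hH => (key H (h₁ hH)).1 hH, fun hH => (key H (h₂ hH)).2 hH⟩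
  let P : B → S.powerset := fun b =>
    ⟨S.filter fun H => (b : MulAut W) ∈ H, Finset.mem_powerset.2 (Finset.filter_subset _ _)⟩
  have hP : Function.Injective P := by
    intro b c h
    have h' : (S.filter fun H => (b : MulAut W) ∈ H) = S.filter fun H => (c : MulAut W) ∈ H :=
      congrArg Subtype.val h
    have h1 := hS1 ((b : MulAut W)⁻¹ * c) (mul_mem (inv_mem b.2) c.2) fun H hH => ?_
    · exact Subtype.ext (inv_mul_eq_one.1 h1)
    have hiff : ((b : MulAut W) ∈ H ↔ (c : MulAut W) ∈ H) := by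
      constructor <;> intro hm
      · exact (Finset.mem_filter.1 (h' ▸ Finset.mem_filter.2 ⟨hH, hm⟩ :)).2
      · exact (Finset.mem_filter.1 (h'.symm ▸ Finset.mem_filter.2 ⟨hH, hm⟩ :)).2
    by_cases hb : (b : MulAut W) ∈ H
    · exact mul_mem (inv_mem hb) (hiff.1 hb)
    · exact hdec H hH b b.2 hb c c.2 fun hc => hb (hiff.2 hc)
  have hFsurj : Function.Surjective F := by
    have h1 := Nat.card_le_card_of_injective P hP
    have h2 := Nat.card_le_card_of_injective F hF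
    rw [hB] at h1
    rw [show Nat.card (W ⧸ U) = 2 ^ n from hidx] at h2
    exact ((Nat.bijective_iff_injective_and_card F).2 ⟨hF, by
      rw [show Nat.card (W ⧸ U) = 2 ^ n from hidx]; omega⟩).2
  -- all values of the `δ b` lie in `⟨u H₁⟩`
  have hrange : ∀ b ∈ B, ∀ x, ∃ T ⊆ S, δ b x = ∏ H ∈ T, (if b ∈ H then 1 else u H) := by
    intro b hb x
    obtain ⟨⟨T, hT⟩, hTx⟩ := hFsurj (x : W ⧸ U)
    rw [Finset.mem_powerset] at hT
    refine ⟨T, hT, ?_⟩
    have h1 := hδU b hb _ (QuotientGroup.eq.1 hTx)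
    rw [hδmul, show δ b (∏ H ∈ T, w H)⁻¹ = (δ b (∏ H ∈ T, w H))⁻¹ from
      map_inv (MonoidHom.mk' (δ b) (hδmul b)) _, inv_mul_eq_one] at h1
    rw [← h1, hδprod]
    exact Finset.prod_congr rfl fun H hH => hδw H (hT hH) b hb
  obtain ⟨H₁, hH₁⟩ : S.Nonempty := by
    by_contra hS
    rw [Finset.not_nonempty_iff_eq_empty] at hS
    have : B = ⊥ := (Subgroup.eq_bot_iff_forall _).2 fun d hd => hS1 d hd (by simp [hS])
    rw [this, card_bot] at hB
    exact (Nat.one_lt_two_pow (by omega : n ≠ 0)).ne hB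
  have hone : ∀ H ∈ S, ∀ x, δ (e H) x = 1 ∨ δ (e H) x = u H := by
    intro H hH x
    obtain ⟨T, hT, hx⟩ := hrange (e H) (heB H hH) x
    rw [hx]
    by_cases hHT : H ∈ T
    · right
      rw [Finset.prod_eq_single H (fun K' hK' hne' => by rw [if_pos (heO H hH K' (hT hK') hne')])
        (fun h => absurd hHT h), if_neg (heH H hH)]
    · left
      exact Finset.prod_eq_one fun K' hK' => by
        rw [if_pos (heO H hH K' (hT hK') fun h => hHT (h ▸ hK'))]
  have hall : ∀ H ∈ S, u H = u H₁ := by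
    intro H hH
    by_cases hHH : H = H₁
    · rw [hHH]
    set b := e H * e H₁ with hb
    have hbB : b ∈ B := mul_mem (heB H hH) (heB H₁ hH₁)
    have hbH : b ∉ H := fun hc => heH H hH (by
      have := mul_mem hc (inv_mem (heO H₁ hH₁ H hH hHH))
      rwa [hb, mul_inv_cancel_right] at this)
    have hbH₁ : b ∉ H₁ := fun hc => heH H₁ hH₁ (by
      have := mul_mem (inv_mem (heO H hH H₁ hH₁ (Ne.symm hHH))) hc
      rwa [hb, inv_mul_cancel_left] at this)
    have hb1 : b ≠ 1 := fun h => hbH (h ▸ one_mem _)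
    have he1 : e H ≠ 1 := fun h => heH H hH (h ▸ one_mem _)
    obtain ⟨g, hg, hgb⟩ := hBtr (e H) (heB H hH) b hbB he1 hb1
    have htwo : ∀ y, δ b y = 1 ∨ δ b y = g (u H) := by
      intro y
      have h1 : δ b y = g (δ (e H) (g⁻¹ y)) := by
        show y⁻¹ * b y = g ((g⁻¹ y)⁻¹ * e H (g⁻¹ y))
        rw [map_mul, map_inv, MulAut.apply_inv_self, ← hgb]
        rfl
      rcases hone H hH (g⁻¹ y) with h2 | h2
      · left; rw [h1, h2, map_one]
      · right; rw [h1, h2]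
    have e1 := hδw H hH b hbB
    rw [if_neg hbH] at e1
    have e2 := hδw H₁ hH₁ b hbB
    rw [if_neg hbH₁] at e2
    rcases htwo (w H) with h | h
    · exact absurd (e1.symm.trans h) (hu1 H hH)
    rcases htwo (w H₁) with h' | h'
    · exact absurd (e2.symm.trans h') (hu1 H₁ hH₁)
    exact (e1.symm.trans h).trans (e2.symm.trans h').symm
  -- `u H₁` would be fixed by `L`
  have hu1U : u H₁ ∈ U := hBW _ (heB H₁ hH₁) _
  obtain ⟨v, hv, hv1, hvu⟩ : ∃ v ∈ U, v ≠ 1 ∧ v ≠ u H₁ := by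
    by_contra hc
    push Not at hc
    have : Nat.card U ≤ 2 := by
      have hle : (U : Set W) ⊆ {1, u H₁} := fun v hv => by
        by_cases hv1 : v = 1
        · exact Or.inl hv1
        · exact Or.inr (hc v hv hv1)
      exact (Nat.card_mono (Set.toFinite _) hle).trans (by
        rw [Nat.card_coe_set_eq]; exact (Set.ncard_insert_le _ _).trans (by simp))
    rw [hU] at this
    have := Nat.pow_le_pow_right (show 1 ≤ 2 by norm_num) hn
    omega
  obtain ⟨g, hg, hgu⟩ := hUtr _ hu1U v hv (hu1 H₁ hH₁) hv1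
  obtain ⟨T, hTS, hT⟩ := hrange (g * e H₁ * g⁻¹) (hLB g hg _ (heB H₁ hH₁)) (g (w H₁))
  have hval' : δ (g * e H₁ * g⁻¹) (g (w H₁)) = v := by
    show (g (w H₁))⁻¹ * g (e H₁ (g⁻¹ (g (w H₁)))) = v
    rw [MulAut.inv_apply_self, ← map_inv, ← map_mul]
    exact hgu
  rw [hval'] at hT
  have hTu : v ∈ zpowers (u H₁) := by
    rw [hT]
    refine Subgroup.prod_mem _ fun H hH => ?_
    split_ifs with h
    · exact one_mem _
    · rw [hall H (hTS hH)]; exact mem_zpowers _
  rcases eq_one_or_eq_of_mem_zpowers hTu (hW _) with h | h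
  · exact hv1 h
  · exact hvu h

end Cfsg.Agent.TwoLength
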