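import Cfsg.Agent.Lib.TwoLength.QuadSection
import Cfsg.Agent.Lib.TwoLength.NoConfig
import Cfsg.Agent.Lib.FittingHeight.Tools
import Cfsg.Agent.Lib.Coprime.Commutator
import Cfsg.Agent.Lib.Coprime.OmegaTwo
import Cfsg.Agent.Lib.PGroup.Frattini

/-!
# The configuration excluded in the 2-length theorem for groups with one class of involutions

A normal 2-subgroup `M` containing all involutions centrally, `Q` of odd order centralising them, a
2-group `T` with `⁅Q, T⁆` not centralising `M`, and normalisers transitive on the involutions.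
-/

set_option autoImplicit false
set_option linter.style.haveILetI false

namespace Cfsg.Agent.TwoLength

open Subgroup
open scoped commutatorElement

variable {G : Type*} [Group G]

/-- A `p`-group fixes an element outside an invariant proper normal subgroup of a `p`-group. -/
theorem exists_fixed_layer [Finite G] {p : ℕ} [hp : Fact p.Prime] {T A Y : Subgroup G}
    (hT : IsPGroup p T) (hY : IsPGroup p Y) (hAY : A ≤ Y) (hne : A ≠ Y)
    (hTY : ∀ t ∈ T, ∀ y ∈ Y, t * y * t⁻¹ ∈ Y) (hTA : ∀ t ∈ T, ∀ a ∈ A, t * a * t⁻¹ ∈ A)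
    (hn : ∀ y ∈ Y, ∀ a ∈ A, y * a * y⁻¹ ∈ A) :
    ∃ y ∈ Y, y ∉ A ∧ ∀ t ∈ T, y⁻¹ * (t * y * t⁻¹) ∈ A := by
  classical
  let φ : T →* MulAut G := MulAut.conj.comp T.subtype
  let ψ := FittingHeight.restrictAct φ Y (fun t y hy => hTY t t.2 y hy)
  haveI : (A.subgroupOf Y).Normal := ⟨fun a ha y => hn y y.2 _ ha⟩
  let χ := FittingHeight.quotAct ψ (A.subgroupOf Y) (fun t a ha => hTA t t.2 _ ha)
  letI : MulAction T (Y ⧸ A.subgroupOf Y) :=
    { smul := fun t x => χ t x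
      one_smul := fun x => by show χ 1 x = x; rw [map_one, MulAut.one_apply]
      mul_smul := fun a b x => by show χ (a * b) x = χ a (χ b x); rw [map_mul, MulAut.mul_apply] }
  have hdvd : p ∣ Nat.card (Y ⧸ A.subgroupOf Y) := by
    obtain ⟨k, hk⟩ := IsPGroup.iff_card.1 (hY.to_quotient (A.subgroupOf Y))
    rw [hk]
    refine dvd_pow_self p ?_
    rintro rfl
    rw [pow_zero] at hk
    exact hne (le_antisymm hAY (subgroupOf_eq_top.1 (index_eq_one.1 hk)))
  obtain ⟨x, hx, hx1⟩ := hT.exists_fixed_point_of_prime_dvd_card_of_fixed_point (Y ⧸ A.subgroupOf Y) hdvd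
    (a := 1) (fun t => map_one (χ t))
  induction x using QuotientGroup.induction_on with | H y => ?_
  refine ⟨y, y.2, fun hyA => hx1 ((QuotientGroup.eq_one_iff y).2 hyA).symm, fun t ht => ?_⟩
  have h1 : ((y : Y) : Y ⧸ A.subgroupOf Y) = ((ψ ⟨t, ht⟩ y : Y) : Y ⧸ A.subgroupOf Y) :=
    (hx ⟨t, ht⟩).symm
  have h2 := QuotientGroup.eq.1 h1
  exact h2

theorem exists_last_power [Finite G] {V : Subgroup G} {x : G} (hx : x ∉ V) {k : ℕ}
    (hk : x ^ 2 ^ k ∈ V) : ∃ j, x ^ 2 ^ j ∉ V ∧ (x ^ 2 ^ j) ^ 2 ∈ V := by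
  induction k with
  | zero => rw [pow_zero, pow_one] at hk; exact absurd hk hx
  | succ k ih =>
    by_cases h : x ^ 2 ^ k ∈ V
    · exact ih h
    · exact ⟨k, h, by rwa [← pow_mul, ← pow_succ]⟩

theorem card_sup_of_le_normalizer [Finite G] {A B : Subgroup G}
    (h : B ≤ normalizer (A : Set G)) :
    Nat.card (A ⊔ B : Subgroup G) * Nat.card (A ⊓ B : Subgroup G) = Nat.card A * Nat.card B := by
  haveI := Subgroup.normal_subgroupOf_of_le_normalizer h
  haveI := Subgroup.normal_subgroupOf_sup_of_le_normalizer h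
  have h1 : (A.subgroupOf B).index = (A.subgroupOf (B ⊔ A)).index :=
    Nat.card_congr (QuotientGroup.quotientInfEquivProdNormalizerQuotient B A h).toEquiv
  have h2 := Subgroup.card_mul_index (A.subgroupOf (B ⊔ A))
  have h3 := Subgroup.card_mul_index (A.subgroupOf B)
  rw [Nat.card_congr (subgroupOfEquivOfLe (le_sup_right : A ≤ B ⊔ A)).toEquiv, ← h1] at h2
  have h4 : Nat.card (A.subgroupOf B) = Nat.card (A ⊓ B : Subgroup G) := by
    rw [← card_map_of_injective B.subtype_injective, subgroupOf_map_subtype]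
  rw [h4] at h3
  rw [sup_comm, ← h2, ← h3]
  ring

set_option maxHeartbeats 800000 in
theorem false_of_config [Finite G] {V M N N₁ Q T : Subgroup G}
    (hV : ∀ x : G, x ^ 2 = 1 ↔ x ∈ V) {n : ℕ} (hn : Nat.card V = 2 ^ n) (hn2 : 2 ≤ n)
    [hMn : M.Normal] (hMp : IsPGroup 2 M) (hVM : V ≤ M) (hMV : M ≤ centralizer (V : Set G))
    (hVN : V ≤ N) (hQN : Q ≤ N) (hTN : T ≤ N) (hN₁ : N₁ ≤ N)
    (hTp : IsPGroup 2 T) (hMNT : M ⊓ N ≤ T) (hQodd : Odd (Nat.card Q))
    (hNQ : N ≤ normalizer (Q : Set G)) (hNR : N ≤ normalizer ((⁅Q, T⁆ : Subgroup G) : Set G))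
    (hN₁T : N₁ ≤ normalizer (T : Set G))
    (hQV : Q ≤ centralizer (V : Set G)) (hTV : T ≤ centralizer (V : Set G))
    (htr : ∀ u ∈ V, ∀ v ∈ V, u ≠ 1 → v ≠ 1 → ∃ g ∈ N₁, g * u * g⁻¹ = v)
    (hR : ¬ (⁅Q, T⁆ : Subgroup G) ≤ centralizer (M : Set G)) : False := by
  classical
  set R : Subgroup G := ⁅Q, T⁆ with hRdef
  have hTQ : T ≤ normalizer (Q : Set G) := hTN.trans hNQ
  have hRQ : R ≤ Q := Coprime.commutator_le_left_of_le_normalizer hTQ
  have hRN : R ≤ N := hRQ.trans hQN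
  have hRodd : Odd (Nat.card R) := Odd.of_dvd_nat hQodd (card_dvd_of_le hRQ)
  have hn0 : n ≠ 0 := by omega
  have hconjV : ∀ g x : G, x ∈ V → g * x * g⁻¹ ∈ V := fun g x hx => (hV _).1 (by
    rw [conj_pow, (hV x).2 hx, mul_one, mul_inv_cancel])
  -- a minimal `N`-invariant subgroup of `M` not centralised by `R`
  haveI := Fintype.ofFinite (Subgroup G)
  let cand : Finset (Subgroup G) := Finset.univ.filter fun H =>
    H ≤ M ∧ N ≤ normalizer (H : Set G) ∧ ¬ R ≤ centralizer (H : Set G)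
  obtain ⟨H, hHc, hHmin⟩ := Finset.exists_min_image cand (fun H => Nat.card H)
    ⟨M, by simpa [cand, normalizer_eq_top] using hR⟩
  obtain ⟨hHM, hNH, hRH⟩ : H ≤ M ∧ N ≤ normalizer (H : Set G) ∧ ¬ R ≤ centralizer (H : Set G) := by
    simpa [cand] using hHc
  have hHp : IsPGroup 2 H := hMp.to_le hHM
  have hmin : ∀ D : Subgroup G, D < H → N ≤ normalizer (D : Set G) → R ≤ centralizer (D : Set G) := by
    intro D hD hND
    by_contra hc
    have h1 := hHmin D (by simp [cand, hD.le.trans hHM, hND, hc])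
    exact hD.ne (Subgroup.eq_of_le_of_card_ge hD.le h1)
  have hRHn : R ≤ normalizer (H : Set G) := hRN.trans hNH
  have hcopRH : (Nat.card R).Coprime (Nat.card H) := by
    obtain ⟨k, hk⟩ := hHp.exists_card_eq
    rw [hk]; exact (Nat.coprime_two_right.2 hRodd).pow_right k
  haveI : Group.IsNilpotent H := hHp.isNilpotent
  have hHR : ⁅H, R⁆ = H := by
    have hle : ⁅H, R⁆ ≤ H := Coprime.commutator_le_left_of_le_normalizer hRHn
    rcases hle.lt_or_eq with hlt | h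
    · exfalso
      have h1 := hmin _ hlt (by
        intro g hg
        refine mem_normalizer_iff.2 fun x => ?_
        have hmap : (⁅H, R⁆ : Subgroup G).map (MulAut.conj g).toMonoidHom = ⁅H, R⁆ := by
          rw [map_commutator, show H.map (MulAut.conj g).toMonoidHom = H from
            Coprime.conj_smul_eq_self_of_mem (hNH hg), show R.map (MulAut.conj g).toMonoidHom = R from
            Coprime.conj_smul_eq_self_of_mem (hNR hg)]
        constructor
        · intro hx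
          rw [← hmap]
          exact mem_map_of_mem _ hx
        · intro hx
          rw [← hmap] at hx
          obtain ⟨y, hy, hye⟩ := hx
          have : g * y * g⁻¹ = g * x * g⁻¹ := hye
          rwa [← mul_left_cancel (mul_right_cancel this)])
      exact hRH (Coprime.le_centralizer_of_commutator_le_centralizer hRHn hcopRH
        (Or.inr inferInstance) h1)
    · exact h
  have hcentral : ∀ D : Subgroup G, D < H → N ≤ normalizer (D : Set G) →
      (∀ h ∈ H, ∀ d ∈ D, h * d * h⁻¹ ∈ D) → H ≤ centralizer (D : Set G) := by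
    intro D hD hND hHD
    have hRD := hmin D hD hND
    rw [← hHR, commutator_le]
    intro h hh r hr
    refine mem_centralizer_iff.2 fun d hd => ?_
    have h1 : ∀ e ∈ D, r * e * r⁻¹ = e := fun e he => by
      rw [← mem_centralizer_iff.1 (hRD hr) e he, mul_inv_cancel_right]
    have h2 : h⁻¹ * d * h ∈ D := by
      have := hHD h⁻¹ (inv_mem hh) d hd
      rwa [inv_inv] at this
    have h3 : ⁅h, r⁆ * d * ⁅h, r⁆⁻¹ = d := by
      calc ⁅h, r⁆ * d * ⁅h, r⁆⁻¹ = h * (r * (h⁻¹ * (r⁻¹ * d * r) * h) * r⁻¹) * h⁻¹ := by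
            rw [commutatorElement_def]; group
        _ = d := by
          have h4 : r⁻¹ * d * r = d := by
            have := h1 d hd
            calc r⁻¹ * d * r = r⁻¹ * (r * d * r⁻¹) * r := by rw [this]
              _ = d := by group
          rw [h4, h1 _ h2]; group
    exact (mul_inv_eq_iff_eq_mul.1 h3).symm
  -- squares
  have hH1 : H ≠ ⊥ := by
    rintro rfl
    exact hRH fun r _ => mem_centralizer_iff.2 fun x hx => by
      rw [mem_bot.1 hx, one_mul, mul_one]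
  haveI : Nontrivial H := (nontrivial_iff_ne_bot H).2 hH1
  set D := (frattini H).map H.subtype with hDdef
  have hDlt : D < H := by
    have h1 : frattini H ≠ ⊤ := fun htop => by
      obtain ⟨C, hC, -⟩ :=
        (IsCoatomic.eq_top_or_exists_le_coatom (⊥ : Subgroup H)).resolve_left bot_ne_top
      exact hC.1 (top_le_iff.1 (htop ▸ frattini_le_coatom hC))
    conv_rhs => rw [← range_subtype H, MonoidHom.range_eq_map]
    exact (map_lt_map_iff_of_injective H.subtype_injective).2 (lt_top_iff_ne_top.2 h1)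
  have hDc : H ≤ centralizer (D : Set G) := by
    refine hcentral D hDlt ?_ ?_
    · intro g hg
      have key : ∀ g ∈ N, ∀ x ∈ D, g * x * g⁻¹ ∈ D := by
        rintro g hg _ ⟨y, hy, rfl⟩
        let e : H ≃* H := normalizerMonoidHom H ⟨g, hNH hg⟩
        refine ⟨e y, ?_, rfl⟩
        rw [← characteristic_iff_map_eq.1 (inferInstance : (frattini H).Characteristic) e]
        exact mem_map_of_mem _ hy
      refine mem_normalizer_iff.2 fun x => ⟨fun hx => key g hg x hx, fun hx => ?_⟩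
      have := key g⁻¹ (inv_mem hg) _ hx
      rwa [show g⁻¹ * (g * x * g⁻¹) * g⁻¹⁻¹ = x by group] at this
    · rintro h hh _ ⟨y, hy, rfl⟩
      exact ⟨⟨h, hh⟩ * y * ⟨h, hh⟩⁻¹, (inferInstance : (frattini H).Normal).conj_mem y hy _, rfl⟩
  have hsqD : ∀ x ∈ H, x ^ 2 ∈ D := fun x hx =>
    ⟨(⟨x, hx⟩ : H) ^ 2, PGroup.pow_mem_frattini hHp _, rfl⟩
  have hcomD : ∀ x ∈ H, ∀ y ∈ H, ⁅x, y⁆ ∈ D := fun x hx y hy =>
    ⟨⁅(⟨x, hx⟩ : H), ⟨y, hy⟩⁆, PGroup.commutator_le_frattini hHp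
      (commutator_mem_commutator (mem_top _) (mem_top _)), rfl⟩
  have hcc : ∀ d ∈ D, ∀ z ∈ H, d * z = z * d := fun d hd z hz => mem_centralizer_iff.1 (hDc hz) d hd
  have hcomV : ∀ x ∈ H, ∀ y ∈ H, ⁅x, y⁆ ∈ V := by
    intro x hx y hy
    refine (hV _).1 ?_
    have h1 : ⁅x ^ 2, y⁆ = 1 :=
      commutatorElement_eq_one_iff_mul_comm.2 (hcc _ (hsqD x hx) y hy)
    rw [pow_two x, commutatorElement_mul_left_eq_conj_mul, ← hcc _ (hcomD x hx y hy) x hx,
      mul_inv_cancel_right] at h1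
    rw [pow_two, h1]
  have hsqmul : ∀ x ∈ H, ∀ y ∈ H, (x * y) ^ 2 = x ^ 2 * y ^ 2 * ⁅x⁻¹, y⁆ := by
    intro x hx y hy
    rw [mul_assoc (x ^ 2), ← hcc _ (hcomD _ (inv_mem hx) y hy) _ (pow_mem hy 2),
      commutatorElement_def, pow_two, pow_two, pow_two]
    group
  -- exponent four
  let Om : Subgroup G :=
    { carrier := {x | x ∈ H ∧ x ^ 4 = 1}
      one_mem' := ⟨one_mem _, one_pow _⟩
      mul_mem' := fun {x y} hx hy => ⟨mul_mem hx.1 hy.1, by
        rw [show 4 = 2 * 2 from rfl, pow_mul, hsqmul x hx.1 y hy.1]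
        have c1 : Commute (x ^ 2) (y ^ 2) := hcc _ (hsqD x hx.1) _ (pow_mem hy.1 2)
        have c2 : Commute (x ^ 2 * y ^ 2) ⁅x⁻¹, y⁆ :=
          (hcc _ (hcomD _ (inv_mem hx.1) y hy.1) _
            (mul_mem (pow_mem hx.1 2) (pow_mem hy.1 2))).symm
        rw [c2.mul_pow, c1.mul_pow, ← pow_mul, ← pow_mul,
          show x ^ (2 * 2) = 1 from hx.2, show y ^ (2 * 2) = 1 from hy.2,
          (hV _).2 (hcomV _ (inv_mem hx.1) y hy.1), one_mul, one_mul]⟩
      inv_mem' := fun {x} hx => ⟨inv_mem hx.1, by rw [inv_pow, hx.2, inv_one]⟩ }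
  have hOmH : Om = H := by
    have hle : Om ≤ H := fun x hx => hx.1
    rcases hle.lt_or_eq with hlt | h
    · exfalso
      have hRO := hmin Om hlt (by
        intro g hg
        refine mem_normalizer_iff.2 fun x => ?_
        show x ∈ H ∧ x ^ 4 = 1 ↔ g * x * g⁻¹ ∈ H ∧ (g * x * g⁻¹) ^ 4 = 1
        rw [← mem_normalizer_iff.1 (hNH hg) x, conj_pow]
        simp [mul_inv_eq_one])
      refine hRH (Coprime.le_centralizer_of_fix_pow_four_eq_one H R hHp hRHn hRodd fun x hx hx4 r hr => ?_)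
      exact mem_centralizer_singleton_iff.2 (mem_centralizer_iff.1 (hRO hr) x ⟨hx, hx4⟩).symm
    · exact h
  have hsqV : ∀ x ∈ H, x ^ 2 ∈ V := fun x hx => (hV _).1 (by
    have : x ∈ Om := hOmH ▸ hx
    rw [← pow_mul]; exact this.2)
  -- `X = H V`
  set X := H ⊔ V with hX
  have hHV : H ≤ normalizer (V : Set G) := fun h _ => mem_normalizer_iff.2 fun x =>
    ⟨fun hx => hconjV h x hx, fun hx => by
      have := hconjV h⁻¹ _ hx
      rwa [show h⁻¹ * (h * x * h⁻¹) * h⁻¹⁻¹ = x by group] at this⟩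
  have hXmem : ∀ x ∈ X, ∃ h ∈ H, ∃ v ∈ V, h * v = x := by
    intro x hx
    rw [hX, ← SetLike.mem_coe, coe_mul_of_left_le_normalizer_right H V hHV] at hx
    obtain ⟨h, hh, v, hv, e⟩ := hx
    exact ⟨h, hh, v, hv, e⟩
  have hXM : X ≤ M := sup_le hHM hVM
  have hXq : IsQuadSection V X := by
    refine ⟨le_sup_right, hXM.trans hMV, fun x hx => ?_⟩
    obtain ⟨h, hh, v, hv, rfl⟩ := hXmem x hx
    have hc : Commute h v := (mem_centralizer_iff.1 (hMV (hHM hh)) v hv).symm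
    rw [hc.mul_pow, (hV v).2 hv, mul_one]
    exact hsqV h hh
  have hNX : ∀ g ∈ N, ∀ x ∈ X, g * x * g⁻¹ ∈ X := by
    intro g hg x hx
    obtain ⟨h, hh, v, hv, rfl⟩ := hXmem x hx
    rw [show g * (h * v) * g⁻¹ = (g * h * g⁻¹) * (g * v * g⁻¹) by group]
    exact mul_mem (mem_sup_left ((mem_normalizer_iff.1 (hNH hg) h).1 hh))
      (mem_sup_right (hconjV g v hv))
  -- the module `W = X / V`
  let φ : N →* MulAut G := MulAut.conj.comp N.subtype
  let ψX := FittingHeight.restrictAct φ X (fun g x hx => hNX g g.2 x hx)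
  haveI : (V.subgroupOf X).Normal := ⟨fun v hv g => hconjV g _ hv⟩
  let Wt := X ⧸ V.subgroupOf X
  let ψ : N →* MulAut Wt := FittingHeight.quotAct ψX (V.subgroupOf X) (fun g v hv => hconjV g _ hv)
  let mk : X →* Wt := QuotientGroup.mk' (V.subgroupOf X)
  have hmk : Function.Surjective mk := QuotientGroup.mk'_surjective _
  have hψ : ∀ (g : N) (x : X), ψ g (mk x) = mk ⟨(g : G) * x * (g : G)⁻¹, hNX g g.2 x x.2⟩ :=
    fun g x => rfl
  have hmk1 : ∀ x : X, mk x = 1 ↔ (x : G) ∈ V := fun x => QuotientGroup.eq_one_iff x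
  have hmkeq : ∀ x y : X, mk x = mk y ↔ (x : G)⁻¹ * y ∈ V := fun x y => QuotientGroup.eq
  have hW2 : ∀ w : Wt, w * w = 1 := by
    intro w
    obtain ⟨x, rfl⟩ := hmk w
    rw [← map_mul, hmk1]
    show (x : G) * x ∈ V
    rw [← pow_two]; exact hXq.sq x x.2
  have hinvW : ∀ w : Wt, w⁻¹ = w := fun w => inv_eq_of_mul_eq_one_left (hW2 w)
  letI : CommGroup Wt :=
    { (inferInstance : Group Wt) with
      mul_comm := fun a b => by rw [← hinvW (a * b), mul_inv_rev, hinvW, hinvW] }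
  -- preimages
  let pre : Subgroup Wt → Subgroup G := fun S => (S.comap mk).map X.subtype
  have hpre_le : ∀ S, pre S ≤ X := fun S => map_subtype_le _
  have hpre_ge : ∀ S, V ≤ pre S := fun S v hv =>
    ⟨⟨v, le_sup_right (a := H) hv⟩, by
      show mk _ ∈ S
      rw [(hmk1 _).2 hv]; exact one_mem S, rfl⟩
  have hpre_mem : ∀ (S : Subgroup Wt) (x : X), (x : G) ∈ pre S ↔ mk x ∈ S := fun S x =>
    ⟨fun ⟨y, hy, e⟩ => (Subtype.ext e : y = x) ▸ hy, fun h => ⟨x, h, rfl⟩⟩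
  have hpre_card : ∀ S, Nat.card (pre S) = 2 ^ n * Nat.card S := by
    intro S
    have h1 := index_comap_of_surjective S hmk
    have h2 := Subgroup.card_mul_index (S.comap mk)
    have h3 := Subgroup.card_mul_index S
    have h4 := Subgroup.card_mul_index (V.subgroupOf X)
    rw [Nat.card_congr (subgroupOfEquivOfLe (le_sup_right : V ≤ X)).toEquiv, hn] at h4
    rw [show Nat.card Wt = (V.subgroupOf X).index from rfl] at h3
    rw [show Nat.card (pre S) = Nat.card (S.comap mk) from card_map_of_injective X.subtype_injective]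
    have h5 : 0 < S.index := Nat.pos_of_ne_zero Subgroup.index_ne_zero_of_finite
    refine Nat.eq_of_mul_eq_mul_right h5 ?_
    rw [h1] at h2
    rw [h2, mul_assoc, h3, h4]
  have hpre_quad : ∀ S, IsQuadSection V (pre S) := fun S =>
    ⟨hpre_ge S, (hpre_le S).trans hXq.cent, fun x hx => hXq.sq x (hpre_le S hx)⟩
  have hN₁inv : ∀ S : Subgroup Wt, (∀ g : N, (g : G) ∈ N₁ → ∀ w ∈ S, ψ g w ∈ S) →
      ∀ g ∈ N₁, ∀ x ∈ pre S, g * x * g⁻¹ ∈ pre S := by
    rintro S hS g hg _ ⟨x, hx, rfl⟩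
    refine (hpre_mem S ⟨g * (x : G) * g⁻¹, hNX g (hN₁ hg) x x.2⟩).2 ?_
    exact hS ⟨g, hN₁ hg⟩ hg _ hx
  -- `N` acts irreducibly and `R` fixes only `1`
  have hfixR : ∀ w : Wt, (∀ r : N, (r : G) ∈ R → ψ r w = w) → w = 1 := by
    intro w hw
    let Rn := R.subgroupOf N
    haveI : Fintype Rn := Fintype.ofFinite _
    let θ : Wt →* Wt := ∏ r : Rn, (ψ (r : N)).toMonoidHom
    have hθ : ∀ x, θ x = ∏ r : Rn, ψ (r : N) x := fun x => MonoidHom.finsetProd_apply _ _ _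
    have hθr : ∀ r : Rn, ∀ x, θ (ψ (r : N) x) = θ x := by
      intro r x
      rw [hθ, hθ]
      refine Fintype.prod_equiv (Equiv.mulRight r) _ _ fun s => ?_
      show ψ (s : N) (ψ (r : N) x) = ψ ((s * r : Rn) : N) x
      rw [← MulAut.mul_apply, ← map_mul]
      rfl
    have hall : ∀ x : X, θ (mk x) = 1 := by
      let K : Subgroup G := (θ.comp mk).ker.map X.subtype
      have hVK : V ≤ K := fun v hv => ⟨⟨v, le_sup_right (a := H) hv⟩, by
        show θ (mk _) = 1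
        rw [(hmk1 _).2 hv, map_one], rfl⟩
      have hHK : H ≤ K := by
        rw [← hHR, commutator_le]
        intro h hh r hr
        let hx : X := ⟨h, le_sup_left (b := V) hh⟩
        have hr' : (⟨r, hRN hr⟩ : N) ∈ Rn := hr
        let hy : X := ⟨r * h * r⁻¹, hNX r (hRN hr) h hx.2⟩
        refine ⟨hx * hy⁻¹, ?_, ?_⟩
        · show θ (mk (hx * hy⁻¹)) = 1
          rw [map_mul, map_inv, map_mul, map_inv,
            show mk hy = ψ (⟨r, hRN hr⟩ : N) (mk hx) from (hψ ⟨r, hRN hr⟩ hx).symm,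
            hθr ⟨_, hr'⟩, mul_inv_cancel]
        · show h * (r * h * r⁻¹)⁻¹ = ⁅h, r⁆
          rw [commutatorElement_def]; group
      intro x
      obtain ⟨y, hy, hye⟩ := (sup_le hHK hVK) x.2
      rw [← (Subtype.ext hye : y = x)]
      exact hy
    obtain ⟨x, rfl⟩ := hmk w
    have h1 := hall x
    rw [hθ, Finset.prod_congr rfl fun (r : Rn) _ => hw (r : N) r.2, Finset.prod_const, Finset.card_univ] at h1
    have h2 : Odd (Fintype.card Rn) := by
      rw [← Nat.card_eq_fintype_card, Nat.card_congr (subgroupOfEquivOfLe hRN).toEquiv]; exact hRodd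
    obtain ⟨m, hm⟩ := h2
    rw [hm, pow_succ, pow_mul, pow_two, hW2, one_pow, one_mul] at h1
    exact h1
  have hirr : ∀ S : Subgroup Wt, (∀ g : N, ∀ w ∈ S, ψ g w ∈ S) → S = ⊥ ∨ S = ⊤ := by
    intro S hS
    by_cases htop : S = ⊤
    · exact Or.inr htop
    left
    refine (Subgroup.eq_bot_iff_forall _).2 fun w hw => ?_
    have hlt : pre S ⊓ H < H := by
      refine lt_of_le_of_ne inf_le_right fun e => htop (top_le_iff.1 fun w _ => ?_)
      obtain ⟨x, rfl⟩ := hmk w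
      exact (hpre_mem S x).1 ((sup_le (inf_eq_right.1 e) (hpre_ge S)) x.2)
    have hc := hmin _ hlt (by
      intro g hg
      have key : ∀ g ∈ N, ∀ x ∈ pre S, g * x * g⁻¹ ∈ pre S := by
        rintro g hg _ ⟨x, hx, rfl⟩
        exact (hpre_mem S ⟨g * (x : G) * g⁻¹, hNX g hg x x.2⟩).2 (hS ⟨g, hg⟩ _ hx)
      refine mem_normalizer_iff.2 fun x => ?_
      constructor
      · exact fun hx => ⟨key g hg x hx.1, (mem_normalizer_iff.1 (hNH hg) x).1 hx.2⟩
      · refine fun hx => ⟨?_, (mem_normalizer_iff.1 (hNH hg) x).2 hx.2⟩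
        have := key g⁻¹ (inv_mem hg) _ hx.1
        rwa [show g⁻¹ * (g * x * g⁻¹) * g⁻¹⁻¹ = x by group] at this)
    obtain ⟨x, rfl⟩ := hmk w
    obtain ⟨h, hh, v, hv, hxe⟩ := hXmem x x.2
    refine hfixR _ fun r hr => ?_
    have hhx : mk ⟨h, le_sup_left (b := V) hh⟩ = mk x := (hmkeq _ _).2 (by
      show h⁻¹ * (x : G) ∈ V
      rw [← hxe, inv_mul_cancel_left]; exact hv)
    have hmem : h ∈ pre S ⊓ H := ⟨(hpre_mem S ⟨h, le_sup_left (b := V) hh⟩).2 (hhx ▸ hw), hh⟩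
    rw [← hhx, hψ]
    congr 1
    apply Subtype.ext
    show (r : G) * h * (r : G)⁻¹ = h
    rw [← mem_centralizer_iff.1 (hc hr) h hmem, mul_inv_cancel_right]
  -- the first fixed points
  have hXp : IsPGroup 2 X := hMp.to_le hXM
  have hWnt : (⊤ : Subgroup Wt) ≠ ⊥ := by
    intro h
    have hall : ∀ w : Wt, w = 1 := fun w => (Subgroup.eq_bot_iff_forall _).1 h w (mem_top w)
    refine hRH fun r hr => mem_centralizer_iff.2 fun x hx => ?_
    exact mem_centralizer_iff.1 (hQV (hRQ hr)) x ((hmk1 ⟨x, le_sup_left (b := V) hx⟩).1 (hall _))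
  let FixOf : Subgroup G → Subgroup Wt := fun A =>
    { carrier := {w | ∀ g : N, (g : G) ∈ A → ψ g w = w}
      one_mem' := fun g _ => map_one _
      mul_mem' := fun {a b} ha hb g hg => by rw [map_mul, ha g hg, hb g hg]
      inv_mem' := fun {a} ha g hg => by rw [map_inv, ha g hg] }
  have hFix_ne : ∀ A : Subgroup G, IsPGroup 2 A → A ≤ N → FixOf A ≠ ⊥ := by
    intro A hA hAN h
    obtain ⟨y, hy, hyV, hfix⟩ := exists_fixed_layer hA hXp (le_sup_right : V ≤ X) (fun e => hWnt (by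
      refine (Subgroup.eq_bot_iff_forall _).2 fun w _ => ?_
      obtain ⟨x, rfl⟩ := hmk w
      exact (hmk1 x).2 (e.ge x.2))) (fun t ht y hy => hNX t (hAN ht) y hy)
      (fun t _ a ha => hconjV t a ha) (fun y _ a ha => hconjV y a ha)
    refine hyV ((hmk1 ⟨y, hy⟩).1 ((Subgroup.eq_bot_iff_forall _).1 h _ fun g hg => ?_))
    rw [hψ]
    exact ((hmkeq _ _).2 (hfix g hg)).symm
  have hFix_inv : ∀ (A : Subgroup G) (g : N), (∀ a ∈ A, (g : G)⁻¹ * a * g ∈ A) →
      ∀ w ∈ FixOf A, ψ g w ∈ FixOf A := by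
    intro A g hg w hw a ha
    have h1 := hw (g⁻¹ * a * g) (hg a ha)
    rw [← MulAut.mul_apply, ← map_mul]
    conv_rhs => rw [← h1, ← MulAut.mul_apply, ← map_mul]
    congr 2
    group
  -- `M ∩ N` acts trivially
  have hMN : ∀ g : N, (g : G) ∈ M → ψ g = 1 := by
    have htop : FixOf (M ⊓ N) = ⊤ := by
      refine (hirr _ fun g => hFix_inv (M ⊓ N) g fun a ha => Subgroup.mem_inf.2 ⟨?_, ?_⟩).resolve_left
        (hFix_ne _ (hMp.to_le inf_le_left) inf_le_right)
      · have := hMn.conj_mem a ha.1 (g : G)⁻¹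
        rwa [inv_inv] at this
      · exact mul_mem (mul_mem (inv_mem g.2) ha.2) g.2
    intro g hg
    exact MulEquiv.ext fun w => (htop.ge (mem_top w) : w ∈ FixOf (M ⊓ N)) g ⟨hg, g.2⟩
  -- `T` does not act trivially
  have hTnt : ∃ t : N, (t : G) ∈ T ∧ ψ t ≠ 1 := by
    by_contra hc
    push Not at hc
    apply hWnt
    refine (Subgroup.eq_bot_iff_forall _).2 fun w _ => hfixR w fun r hr => ?_
    have hle : R ≤ ψ.ker.map N.subtype := by
      rw [hRdef, commutator_le]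
      intro q hq t ht
      refine ⟨⁅(⟨q, hQN hq⟩ : N), ⟨t, hTN ht⟩⁆, ?_, rfl⟩
      rw [SetLike.mem_coe, MonoidHom.mem_ker, map_commutatorElement, hc ⟨t, hTN ht⟩ ht,
        commutatorElement_one_right]
    obtain ⟨r', hr', e⟩ := hle hr
    rw [← (Subtype.ext e : r' = r), show ψ r' = 1 from hr', MulAut.one_apply]
  set U := FixOf T with hU
  have hUinv : ∀ g : N, (g : G) ∈ N₁ → ∀ w ∈ U, ψ g w ∈ U := fun g hg =>
    hFix_inv T g fun a ha => (mem_normalizer_iff''.1 (hN₁T hg) a).1 ha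
  have hUne : U ≠ ⊥ := hFix_ne T hTp hTN
  have hUtop : U ≠ ⊤ := fun h => by
    obtain ⟨t, ht, ht1⟩ := hTnt
    exact ht1 (MulEquiv.ext fun w => (h.ge (mem_top w) : w ∈ U) t ht)
  have hdim : ∀ S : Subgroup Wt, (∀ g : N, (g : G) ∈ N₁ → ∀ w ∈ S, ψ g w ∈ S) → S ≠ ⊥ →
      Nat.card S = 2 ^ n ∨ Nat.card S = 2 ^ (2 * n) := by
    intro S hS hne
    rcases quad_trichotomy hV hn hn0 (hpre_quad S) N₁ (hN₁inv S hS) htr with h | ⟨h, -⟩ | h
    · refine absurd ((Subgroup.eq_bot_iff_forall _).2 fun w hw => ?_) hne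
      obtain ⟨x, rfl⟩ := hmk w
      exact (hmk1 x).2 (h.le ((hpre_mem S x).2 hw))
    · left
      rw [hpre_card, two_mul, pow_add] at h
      exact Nat.eq_of_mul_eq_mul_left (Nat.two_pow_pos n) h
    · right
      rw [hpre_card, show 3 * n = n + 2 * n by ring, pow_add] at h
      exact Nat.eq_of_mul_eq_mul_left (Nat.two_pow_pos n) h
  have hle2n : ∀ S : Subgroup Wt, Nat.card S ≤ 2 ^ (2 * n) := fun S => by
    obtain ⟨d, hd, hc⟩ := card_quad_le hV hn (hpre_quad S)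
    rw [hpre_card, pow_add] at hc
    rw [Nat.eq_of_mul_eq_mul_left (Nat.two_pow_pos n) hc]
    exact Nat.pow_le_pow_right (by norm_num) hd
  have htopcard : Nat.card (⊤ : Subgroup Wt) = 2 ^ (2 * n) := by
    refine (hdim ⊤ (fun _ _ _ _ => mem_top _) hWnt).resolve_left fun h => ?_
    rcases hdim U hUinv hUne with h' | h'
    · exact hUtop (Subgroup.eq_of_le_of_card_ge le_top (by omega))
    · have := Subgroup.card_le_of_le (le_top : U ≤ ⊤)
      rw [h, h'] at this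
      have := Nat.pow_lt_pow_right (show 1 < 2 by norm_num) (show n < 2 * n by omega)
      omega
  have hUcard : Nat.card U = 2 ^ n := by
    refine (hdim U hUinv hUne).resolve_right fun h => hUtop ?_
    exact Subgroup.eq_of_le_of_card_ge le_top (by omega)
  have hUidx : U.index = 2 ^ n := by
    have := Subgroup.card_mul_index U
    rw [hUcard, ← card_top, htopcard, two_mul, pow_add] at this
    exact Nat.eq_of_mul_eq_mul_left (Nat.two_pow_pos n) this
  have hXcard : Nat.card X = 2 ^ (3 * n) := by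
    have := hpre_card ⊤
    rw [htopcard, ← pow_add] at this
    have hXe : pre ⊤ = X := le_antisymm (hpre_le _) fun x hx => (hpre_mem ⊤ ⟨x, hx⟩).2 (mem_top _)
    rw [hXe] at this
    rw [this]; ring_nf
  -- `T` is trivial on `W / U`
  have hTU : ∀ t : N, (t : G) ∈ T → ∀ w, w⁻¹ * ψ t w ∈ U := by
    let S : Subgroup Wt :=
      { carrier := {w | ∀ t : N, (t : G) ∈ T → w⁻¹ * ψ t w ∈ U}
        one_mem' := fun t _ => by simp
        mul_mem' := fun {a b} ha hb t ht => by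
          rw [map_mul, mul_inv, mul_mul_mul_comm]
          exact mul_mem (ha t ht) (hb t ht)
        inv_mem' := fun {a} ha t ht => by
          rw [map_inv, ← mul_inv]
          exact inv_mem (ha t ht) }
    have hS_inv : ∀ g : N, (g : G) ∈ N₁ → ∀ w ∈ S, ψ g w ∈ S := by
      intro g hg w hw t ht
      have ht' : ((g⁻¹ * t * g : N) : G) ∈ T := (mem_normalizer_iff''.1 (hN₁T hg) _).1 ht
      have h1 := hUinv g hg _ (hw _ ht')
      rw [map_mul, map_inv, ← MulAut.mul_apply, ← map_mul] at h1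
      rw [← MulAut.mul_apply, ← map_mul]
      rwa [show g * (g⁻¹ * t * g) = t * g by group] at h1
    have hSU : U ≤ S := fun w hw t ht => by rw [hw t ht, inv_mul_cancel]; exact one_mem U
    have hUT : ∀ t ∈ T, ∀ x ∈ pre U, t * x * t⁻¹ ∈ pre U := by
      rintro t ht _ ⟨x, hx, rfl⟩
      refine (hpre_mem U ⟨t * (x : G) * t⁻¹, hNX t (hTN ht) x x.2⟩).2 ?_
      have h1 : ψ ⟨t, hTN ht⟩ (mk x) = mk x := hx ⟨t, hTN ht⟩ ht
      rw [hψ] at h1
      rw [h1]; exact hx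
    have hne : pre U ≠ X := fun e => by
      have := hpre_card U
      rw [e, hXcard, hUcard, ← pow_add] at this
      have := Nat.pow_right_injective le_rfl this
      omega
    obtain ⟨y, hy, hyU, hfix⟩ := exists_fixed_layer hTp hXp (hpre_le U) hne
      (fun t ht y hy => hNX t (hTN ht) y hy) hUT (fun y hy a ha => by
        have h2 : y * a * y⁻¹ = ⁅y, a⁆ * a := by group
        rw [h2]
        exact mul_mem (hpre_ge U (hXq.commutator_mem hy (hpre_le U ha))) ha)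
    have hyS : mk ⟨y, hy⟩ ∈ S := fun t ht => by
      rw [hψ, ← map_inv, ← map_mul, ← hpre_mem]
      exact hfix t ht
    have hlt : U < S := lt_of_le_of_ne hSU fun e => hyU ((hpre_mem U ⟨y, hy⟩).2 (e ▸ hyS))
    have hStop : S = ⊤ := by
      refine Subgroup.eq_of_le_of_card_ge le_top ?_
      rcases hdim S hS_inv (fun e => hUne (le_bot_iff.1 (hSU.trans e.le))) with h | h
      · exact absurd (Subgroup.eq_of_le_of_card_ge hSU (by omega)) hlt.ne
      · omega
    exact fun t ht w => (hStop.ge (mem_top w) : w ∈ S) t ht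
  have hsqψ : ∀ t : N, (t : G) ∈ T → ψ (t * t) = 1 := by
    intro t ht
    refine MulEquiv.ext fun w => ?_
    obtain ⟨u, hu, h1⟩ : ∃ u ∈ U, ψ t w = w * u := ⟨_, hTU t ht w, (mul_inv_cancel_left w _).symm⟩
    rw [map_mul, MulAut.mul_apply, MulAut.one_apply, h1, map_mul, hu t ht, h1, mul_assoc, hW2,
      mul_one]
  -- the kernel of `T` is `V`
  have hVT : V ≤ T := fun v hv => hMNT ⟨hVM hv, hVN hv⟩
  have hψV : ∀ g : N, (g : G) ∈ V → ψ g = 1 := fun g hg => hMN g (hVM hg)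
  have hXN : ∀ x ∈ X, x ∈ N → x ∈ V := by
    intro x hx hxN
    refine (hmk1 ⟨x, hx⟩).1 (hfixR _ fun r hr => ?_)
    rw [hψ]
    congr 1
    apply Subtype.ext
    show (r : G) * x * (r : G)⁻¹ = x
    have h1 : (r : G) * x * (r : G)⁻¹ * x⁻¹ ∈ M :=
      mul_mem (hMn.conj_mem x (hXM hx) r) (inv_mem (hXM hx))
    have h2 : (r : G) * x * (r : G)⁻¹ * x⁻¹ ∈ R := by
      rw [mul_assoc, mul_assoc, ← mul_assoc x]
      exact mul_mem hr ((mem_normalizer_iff.1 (hNR hxN) _).1 (inv_mem hr))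
    have hdisj : R ⊓ M = ⊥ := Coprime.disjoint_of_coprime_card (by
      obtain ⟨k, hk⟩ := hMp.exists_card_eq
      rw [hk]; exact (Nat.coprime_two_right.2 hRodd).pow_right k)
    exact mul_inv_eq_one.1 ((Subgroup.eq_bot_iff_forall _).1 hdisj _ ⟨h2, h1⟩)
  let T₀ : Subgroup G := (ψ.ker ⊓ T.subgroupOf N).map N.subtype
  have hT₀T : T₀ ≤ T := by rintro _ ⟨g, hg, rfl⟩; exact hg.2
  have hT₀mem : ∀ g : N, (g : G) ∈ T₀ ↔ ψ g = 1 ∧ (g : G) ∈ T := fun g =>
    ⟨fun ⟨h, hh, e⟩ => (Subtype.ext e : h = g) ▸ hh, fun h => ⟨g, h, rfl⟩⟩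
  have hVT₀ : V ≤ T₀ := fun v hv => (hT₀mem ⟨v, hVN hv⟩).2 ⟨hψV _ hv, hVT hv⟩
  have hT₀conj : ∀ g ∈ N, (∀ t ∈ T, g * t * g⁻¹ ∈ T) → ∀ x ∈ T₀, g * x * g⁻¹ ∈ T₀ := by
    rintro g hg hgT _ ⟨x, ⟨hx1, hx2⟩, rfl⟩
    refine (hT₀mem (⟨g, hg⟩ * x * ⟨g, hg⟩⁻¹)).2 ⟨?_, hgT _ hx2⟩
    rw [map_mul, map_mul, show ψ x = 1 from hx1, mul_one, ← map_mul, mul_inv_cancel, map_one]
  have hTTconj : ∀ t ∈ T, ∀ x ∈ T, t * x * t⁻¹ ∈ T := fun t ht x hx =>
    mul_mem (mul_mem ht hx) (inv_mem ht)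
  have hN₁Tconj : ∀ g ∈ N₁, ∀ t ∈ T, g * t * g⁻¹ ∈ T := fun g hg t ht =>
    (mem_normalizer_iff.1 (hN₁T hg) t).1 ht
  have hXT₀ : ∀ x ∈ X, ∀ e ∈ T₀, ⁅e, x⁆ ∈ V := by
    intro x hx e he
    obtain ⟨g, ⟨hg1, -⟩, rfl⟩ := he
    have h1 : ψ g (mk ⟨x, hx⟩) = mk ⟨x, hx⟩ := by rw [show ψ g = 1 from hg1, MulAut.one_apply]
    rw [hψ, hmkeq] at h1
    have h1' : ((g : G) * x * (g : G)⁻¹)⁻¹ * x ∈ V := h1
    have h2 := inv_mem (hconjV x _ h1')
    rwa [show (x * (((g : G) * x * (g : G)⁻¹)⁻¹ * x) * x⁻¹)⁻¹ = ⁅(g : G), x⁆ by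
      rw [commutatorElement_def]; group] at h2
  have hT₀V : T₀ = V := by
    refine le_antisymm (fun x hx => ?_) hVT₀
    by_contra hxV
    obtain ⟨y, hy, hyV, hfix⟩ := exists_fixed_layer hTp (hTp.to_le hT₀T) hVT₀
      (fun e => hxV (e ▸ hx)) (fun t ht y hy => hT₀conj t (hTN ht) (hTTconj t ht) y hy)
      (fun t _ a ha => hconjV t a ha) (fun y _ a ha => hconjV y a ha)
    let E₀ : Subgroup G :=
      { carrier := {z | z ∈ T₀ ∧ z ^ 2 ∈ V ∧ ∀ t ∈ T, ⁅t, z⁆ ∈ V}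
        one_mem' := ⟨one_mem _, by rw [one_pow]; exact one_mem V, fun t _ => by
          rw [commutatorElement_one_right]; exact one_mem V⟩
        mul_mem' := fun {a b} ha hb => by
          have hab : ⁅a⁻¹, b⁆ ∈ V := hb.2.2 a⁻¹ (inv_mem (hT₀T ha.1))
          refine ⟨mul_mem ha.1 hb.1, ?_, fun t ht => ?_⟩
          · have hc : ⁅a⁻¹, b⁆ * b ^ 2 = b ^ 2 * ⁅a⁻¹, b⁆ :=
              mem_centralizer_iff.1 (hTV (pow_mem (hT₀T hb.1) 2)) _ hab
            have e : (a * b) ^ 2 = a ^ 2 * b ^ 2 * ⁅a⁻¹, b⁆ := by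
              rw [mul_assoc, ← hc, pow_two, pow_two, pow_two, commutatorElement_def]; group
            rw [e]; exact mul_mem (mul_mem ha.2.1 hb.2.1) hab
          · rw [commutatorElement_mul_right_eq_mul_conj]
            have h1 := hconjV a _ (hb.2.2 t ht)
            rw [show ⁅t, a⁆ * a * ⁅t, b⁆ * a⁻¹ = ⁅t, a⁆ * (a * ⁅t, b⁆ * a⁻¹) by group]
            exact mul_mem (ha.2.2 t ht) h1
        inv_mem' := fun {a} ha => ⟨inv_mem ha.1, by rw [inv_pow]; exact inv_mem ha.2.1,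
          fun t ht => by
            have h1 := inv_mem (hconjV a⁻¹ _ (ha.2.2 t ht))
            rwa [show (a⁻¹ * ⁅t, a⁆ * a⁻¹⁻¹)⁻¹ = ⁅t, a⁻¹⁆ by
              rw [commutatorElement_def, commutatorElement_def]; group] at h1⟩ }
    have hycomm : ∀ t ∈ T, ⁅t, y⁆ ∈ V := fun t ht => by
      have := hconjV y _ (hfix t ht)
      rwa [show y * (y⁻¹ * (t * y * t⁻¹)) * y⁻¹ = ⁅t, y⁆ by rw [commutatorElement_def]; group] at this
    obtain ⟨c, hc⟩ := hTp ⟨y, hT₀T hy⟩
    obtain ⟨j, hj, hj2⟩ := exists_last_power hyV (k := c) (by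
      rw [show y ^ 2 ^ c = 1 from congrArg Subtype.val hc]; exact one_mem V)
    have hjcomm : ∀ t ∈ T, ∀ i : ℕ, ⁅t, y ^ i⁆ ∈ V := by
      intro t ht i
      induction i with
      | zero => rw [pow_zero, commutatorElement_one_right]; exact one_mem V
      | succ i ih =>
        rw [pow_succ, commutatorElement_mul_right_eq_mul_conj,
          show ⁅t, y ^ i⁆ * y ^ i * ⁅t, y⁆ * (y ^ i)⁻¹ = ⁅t, y ^ i⁆ * (y ^ i * ⁅t, y⁆ * (y ^ i)⁻¹) by group]
        exact mul_mem ih (hconjV _ _ (hycomm t ht))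
    have hz : y ^ 2 ^ j ∈ E₀ := ⟨pow_mem hy _, hj2, fun t ht => hjcomm t ht _⟩
    have hVE : V ≤ E₀ := fun v hv => ⟨hVT₀ hv, by rw [(hV v).2 hv]; exact one_mem V, fun t ht => by
      rw [commutatorElement_def, show t * v * t⁻¹ * v⁻¹ = (t * v * t⁻¹) * v⁻¹ by group]
      exact mul_mem (hconjV t v hv) (inv_mem hv)⟩
    have hE₀c : E₀ ≤ centralizer (V : Set G) := fun e he => hTV (hT₀T he.1)
    have hE₀q : IsQuadSection V E₀ := ⟨hVE, hE₀c, fun z hz => hz.2.1⟩
    have hEN₁ : ∀ g ∈ N₁, ∀ z ∈ E₀, g * z * g⁻¹ ∈ E₀ := by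
      intro g hg z hz
      refine ⟨hT₀conj g (hN₁ hg) (hN₁Tconj g hg) z hz.1, by rw [conj_pow]; exact hconjV g _ hz.2.1,
        fun t ht => ?_⟩
      have h1 := hconjV g _ (hz.2.2 (g⁻¹ * t * g) ((mem_normalizer_iff''.1 (hN₁T hg) t).1 ht))
      rwa [show g * ⁅g⁻¹ * t * g, z⁆ * g⁻¹ = ⁅t, g * z * g⁻¹⁆ by
        rw [commutatorElement_def, commutatorElement_def]; group] at h1
    have hEX : E₀ ≤ normalizer (X : Set G) := fun e he => mem_normalizer_iff.2 fun x =>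
      ⟨fun hx => hNX e (hTN (hT₀T he.1)) x hx, fun hx => by
        have := hNX e⁻¹ (inv_mem (hTN (hT₀T he.1))) _ hx
        rwa [show e⁻¹ * (e * x * e⁻¹) * e⁻¹⁻¹ = x by group] at this⟩
    have hP1 : IsQuadSection V (X ⊔ E₀) := by
      refine ⟨le_sup_of_le_left le_sup_right, sup_le hXq.cent hE₀c, fun z hz => ?_⟩
      rw [← SetLike.mem_coe, coe_mul_of_right_le_normalizer_left X E₀ hEX] at hz
      obtain ⟨x, hx, e, he, rfl⟩ := hz
      have h1 : (x * e) ^ 2 = x ^ 2 * (x⁻¹ * (⁅e, x⁆ * x)) * e ^ 2 := by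
        rw [commutatorElement_def, pow_two, pow_two, pow_two]; group
      have h2 : x⁻¹ * (⁅e, x⁆ * x) ∈ V := by
        have := hconjV x⁻¹ _ (hXT₀ x hx e he.1)
        rwa [inv_inv, mul_assoc] at this
      rw [show (x * e) ^ 2 = _ from h1]
      exact mul_mem (mul_mem (hXq.sq x hx) h2) he.2.1
    obtain ⟨d, hd, hcard⟩ := card_quad_le hV hn hP1
    have hsup := card_sup_of_le_normalizer hEX
    have hinf : X ⊓ E₀ = V := le_antisymm
      (fun z hz => hXN z hz.1 (hTN (hT₀T hz.2.1))) (le_inf le_sup_right hVE)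
    rw [hcard, hinf, hn, hXcard] at hsup
    rcases quad_trichotomy hV hn hn0 hE₀q N₁ hEN₁ htr with h | ⟨h, -⟩ | h
    · exact hj (h ▸ hz)
    · rw [h, ← pow_add, ← pow_add] at hsup
      have := Nat.pow_right_injective le_rfl hsup
      omega
    · rw [h, ← pow_add, ← pow_add] at hsup
      have := Nat.pow_right_injective le_rfl hsup
      omega
  -- `T / V` is elementary abelian of order `2 ^ n`
  have hTq : IsQuadSection V T := by
    refine ⟨hVT, hTV, fun t ht => ?_⟩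
    rw [← hT₀V]
    refine (hT₀mem (⟨t, hTN ht⟩ ^ 2)).2 ⟨?_, pow_mem ht 2⟩
    rw [pow_two]; exact hsqψ _ ht
  have hTne : T ≠ V := by
    rintro rfl
    obtain ⟨t, ht, ht1⟩ := hTnt
    exact ht1 (hψV t ht)
  obtain ⟨hTcard, hTtr⟩ : Nat.card T = 2 ^ (2 * n) ∧
      ∀ a ∈ T, ∀ b ∈ T, a ∉ V → b ∉ V → ∃ g ∈ N₁, (g * a * g⁻¹)⁻¹ * b ∈ V := by
    rcases quad_trichotomy hV hn hn0 hTq N₁ hN₁Tconj htr with h | h | h
    · exact absurd h hTne
    · exact h
    exfalso
    have hUT : ∀ t : N, (t : G) ∈ T → ∀ x : X, mk x ∈ U → ⁅(t : G), (x : G)⁆ ∈ V := by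
      intro t ht x hx
      have h1 := hx t ht
      rw [hψ, hmkeq] at h1
      have h1' : ((t : G) * x * (t : G)⁻¹)⁻¹ * (x : G) ∈ V := h1
      have h2 := inv_mem (hconjV x _ h1')
      rwa [show ((x : G) * (((t : G) * x * (t : G)⁻¹)⁻¹ * x) * (x : G)⁻¹)⁻¹ = ⁅(t : G), (x : G)⁆ by
        rw [commutatorElement_def]; group] at h2
    have hTn : T ≤ normalizer (pre U : Set G) := by
      intro t ht
      have key : ∀ t ∈ T, ∀ x ∈ pre U, t * x * t⁻¹ ∈ pre U := by
        rintro t ht _ ⟨x, hx, rfl⟩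
        show t * (x : G) * t⁻¹ ∈ pre U
        rw [show t * (x : G) * t⁻¹ = ⁅t, (x : G)⁆ * x by group]
        exact mul_mem (hpre_ge U (hUT ⟨t, hTN ht⟩ ht x hx)) ((hpre_mem U x).2 hx)
      refine mem_normalizer_iff.2 fun x => ⟨fun hx => key t ht x hx, fun hx => ?_⟩
      have := key t⁻¹ (inv_mem ht) _ hx
      rwa [show t⁻¹ * (t * x * t⁻¹) * t⁻¹⁻¹ = x by group] at this
    have hP2 : IsQuadSection V (pre U ⊔ T) := by
      refine ⟨le_sup_of_le_left (hpre_ge U), sup_le ((hpre_le U).trans hXq.cent) hTV, fun z hz => ?_⟩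
      rw [← SetLike.mem_coe, coe_mul_of_right_le_normalizer_left (pre U) T hTn] at hz
      obtain ⟨_, ⟨x, hx, rfl⟩, t, ht, rfl⟩ := hz
      show ((x : G) * t) ^ 2 ∈ V
      have h1 : ((x : G) * t) ^ 2 = (x : G) ^ 2 * ((x : G)⁻¹ * (⁅t, (x : G)⁆ * x)) * t ^ 2 := by
        rw [commutatorElement_def, pow_two, pow_two, pow_two]; group
      have h2 : (x : G)⁻¹ * (⁅t, (x : G)⁆ * x) ∈ V := by
        have := hconjV (x : G)⁻¹ _ (hUT ⟨t, hTN ht⟩ ht x hx)
        rwa [inv_inv, mul_assoc] at this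
      rw [h1]
      exact mul_mem (mul_mem (hXq.sq x x.2) h2) (hTq.sq t ht)
    obtain ⟨d, hd, hcard⟩ := card_quad_le hV hn hP2
    have hsup := card_sup_of_le_normalizer hTn
    have hinf : pre U ⊓ T = V := le_antisymm
      (fun z hz => hXN z (hpre_le U hz.1) (hTN hz.2)) (le_inf (hpre_ge U) hVT)
    rw [hcard, hinf, hn, hpre_card, hUcard, h, ← pow_add, ← pow_add, ← pow_add] at hsup
    have := Nat.pow_right_injective le_rfl hsup
    omega
  -- the final contradiction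
  set B := (T.subgroupOf N).map ψ with hB
  have hBcard : Nat.card B = 2 ^ n := by
    have h1 := Subgroup.card_eq_card_quotient_mul_card_subgroup (ψ.comp (T.subgroupOf N).subtype).ker
    rw [Nat.card_congr (QuotientGroup.quotientKerEquivRange _).toEquiv,
      Nat.card_congr (subgroupOfEquivOfLe hTN).toEquiv, hTcard] at h1
    have h2 : Nat.card (ψ.comp (T.subgroupOf N).subtype).ker = 2 ^ n := by
      rw [← hn]
      have hmem : ∀ g : (ψ.comp (T.subgroupOf N).subtype).ker,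
          (((g : T.subgroupOf N) : N) : G) ∈ V := fun g => by
        exact hT₀V.le ((hT₀mem _).2 ⟨g.2, (g : T.subgroupOf N).2⟩)
      exact Nat.card_congr ⟨fun g => ⟨_, hmem g⟩,
        fun v => ⟨⟨⟨v, hVN v.2⟩, hVT v.2⟩, hψV _ v.2⟩, fun _ => rfl, fun _ => rfl⟩
    rw [h2, MonoidHom.range_comp, range_subtype, ← hB, two_mul, pow_add] at h1
    exact Nat.eq_of_mul_eq_mul_right (Nat.two_pow_pos n) h1.symm
  refine no_config U B ((Q.subgroupOf N).map ψ) ((N₁.subgroupOf N).map ψ) hn2 hW2 hUcard hUidx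
    ?_ ?_ ?_ hBcard ?_ ?_ ?_ ?_ ?_ ?_ ?_
  · rintro _ ⟨t, ht, rfl⟩ u hu
    exact hu t ht
  · exact fun w hw t ht => hw _ (mem_map_of_mem ψ (show t ∈ T.subgroupOf N from ht))
  · rintro _ ⟨t, ht, rfl⟩ w
    exact hTU t ht w
  · rintro _ ⟨g, hg, rfl⟩ u hu
    exact hUinv g hg u hu
  · rintro _ ⟨g, hg, rfl⟩ _ ⟨t, ht, rfl⟩
    refine ⟨g * t * g⁻¹, hN₁Tconj g hg t ht, ?_⟩
    rw [map_mul, map_mul, map_inv]
  · rintro _ ⟨a, ha, rfl⟩ _ ⟨b, hb, rfl⟩ ha1 hb1
    obtain ⟨g, hg, hgv⟩ := hTtr a ha b hb (fun hc => ha1 (hψV a hc)) (fun hc => hb1 (hψV b hc))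
    refine ⟨ψ ⟨g, hN₁ hg⟩, mem_map_of_mem ψ hg, ?_⟩
    have h1 : ψ ((⟨g, hN₁ hg⟩ * a * ⟨g, hN₁ hg⟩⁻¹)⁻¹ * b) = 1 := hψV _ hgv
    rw [map_mul, map_inv, inv_mul_eq_one, map_mul, map_mul, map_inv] at h1
    exact h1
  · rintro u hu v hv hu1 hv1
    obtain ⟨x, rfl⟩ := hmk u
    obtain ⟨y, rfl⟩ := hmk v
    rcases quad_trichotomy hV hn hn0 (hpre_quad U) N₁ (hN₁inv U hUinv) htr with h | ⟨-, h⟩ | h
    · exact absurd ((hmk1 x).2 (h.le ((hpre_mem U x).2 hu))) hu1
    · obtain ⟨g, hg, hgv⟩ := h x ((hpre_mem U x).2 hu) y ((hpre_mem U y).2 hv)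
        (fun hc => hu1 ((hmk1 x).2 hc)) (fun hc => hv1 ((hmk1 y).2 hc))
      refine ⟨ψ ⟨g, hN₁ hg⟩, mem_map_of_mem ψ hg, ?_⟩
      rw [hψ, hmkeq]
      exact hgv
    · rw [hpre_card, hUcard, ← pow_add] at h
      have := Nat.pow_right_injective le_rfl h
      omega
  · refine le_trans ?_ (le_normalizer_map ψ)
    refine map_mono fun t ht => mem_normalizer_iff.2 fun q => ?_
    exact mem_normalizer_iff.1 (hTQ ht) (q : G)
  · refine Odd.of_dvd_nat hQodd ?_
    rw [← Nat.card_congr (subgroupOfEquivOfLe hQN).toEquiv]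
    exact card_map_dvd (Q.subgroupOf N) ψ
  · intro hc
    apply hWnt
    refine (Subgroup.eq_bot_iff_forall _).2 fun w _ => hfixR w fun r hr => ?_
    have hle : R ≤ ψ.ker.map N.subtype := by
      rw [hRdef, commutator_le]
      intro q hq t ht
      refine ⟨⁅(⟨q, hQN hq⟩ : N), ⟨t, hTN ht⟩⁆, ?_, rfl⟩
      rw [SetLike.mem_coe, MonoidHom.mem_ker, map_commutatorElement,
        commutatorElement_eq_one_iff_mul_comm]
      exact mem_centralizer_iff.1 (hc (mem_map_of_mem ψ (show (⟨t, hTN ht⟩ : N) ∈ T.subgroupOf N from ht))) _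
        (mem_map_of_mem ψ (show (⟨q, hQN hq⟩ : N) ∈ Q.subgroupOf N from hq))
    obtain ⟨r', hr', e⟩ := hle hr
    rw [← (Subtype.ext e : r' = r), show ψ r' = 1 from hr', MulAut.one_apply]

end Cfsg.Agent.TwoLength
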