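import Cfsg.Agent.Lib.TwoLength.Config
import Cfsg.Agent.Lib.PCore.PLength
import Cfsg.Agent.Lib.PCore.HallHigmanDual

/-!
# Solvable groups with one class of involutions have 2-length one
-/

set_option autoImplicit false
set_option linter.style.haveILetI false

namespace Cfsg.Agent.TwoLength

open Cfsg Subgroup
open scoped commutatorElement Pointwise

universe u

set_option maxHeartbeats 800000 in
private theorem step {G : Type u} [Group G] [Finite G] [Group.IsSolvable G]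
    (hconj : ∀ x y : G, x ≠ 1 → x ^ 2 = 1 → y ≠ 1 → y ^ 2 = 1 → IsConj x y)
    (htwo : ∃ x y : G, x ≠ 1 ∧ y ≠ 1 ∧ x ≠ y ∧ x ^ 2 = 1 ∧ y ^ 2 = 1 ∧ Commute x y)
    (hbot : pPrimeCore 2 G = ⊥)
    (ih : ∀ N : Subgroup G, N ≠ ⊤ →
      (∀ x y : N, x ≠ 1 → x ^ 2 = 1 → y ≠ 1 → y ^ 2 = 1 → IsConj x y) →
      (∃ x y : N, x ≠ 1 ∧ y ≠ 1 ∧ x ≠ y ∧ x ^ 2 = 1 ∧ y ^ 2 = 1 ∧ Commute x y) →
      PLengthLE 2 1 N) : PLengthLE 2 1 G := by
  classical
  have hsolv : IsPSolvable 2 G := PCore.isPSolvable_of_isSolvable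
  obtain ⟨x₀, y₀, hx₀, hy₀, hxy₀, hx₀2, hy₀2, -⟩ := htwo
  haveI : Nontrivial G := ⟨⟨x₀, 1, hx₀⟩⟩
  set M := pCore 2 G with hM
  have hMp : IsPGroup 2 M := PCore.isPGroup_pCore
  have hcM : centralizer (M : Set G) ≤ M := PCore.centralizer_pCore_le hsolv hbot
  have hMne : M ≠ ⊥ := (PCore.pCore_ne_bot_or_pPrimeCore_ne_bot hsolv).resolve_right (not_not.mpr hbot)
  haveI : Nontrivial M := (nontrivial_iff_ne_bot M).mpr hMne
  haveI hMn : M.Normal := inferInstance
  set Z : Subgroup G := M ⊓ centralizer (M : Set G) with hZ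
  haveI hZn : Z.Normal := inferInstance
  obtain ⟨v, hvZ, hv⟩ : ∃ v ∈ Z, orderOf v = 2 := by
    haveI := hMp.center_nontrivial
    obtain ⟨k, hk, hkc⟩ := (hMp.to_subgroup (center M)).nontrivial_iff_card.mp inferInstance
    obtain ⟨z, hz⟩ := exists_prime_orderOf_dvd_card' (G := center M) 2
      (by rw [hkc]; exact dvd_pow_self 2 (by omega))
    refine ⟨((z : M) : G), ⟨(z : M).2, mem_centralizer_iff.mpr fun m hm => ?_⟩, ?_⟩
    · exact congrArg Subtype.val (mem_center_iff.mp z.2 ⟨m, hm⟩)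
    · rwa [orderOf_submonoid, orderOf_submonoid]
  have hv1 : v ≠ 1 := fun h => by rw [h, orderOf_one] at hv; omega
  have hv2 : v ^ 2 = 1 := hv ▸ pow_orderOf_eq_one v
  have hall : ∀ x : G, x ^ 2 = 1 → x ∈ Z := by
    intro x hx
    by_cases h1 : x = 1
    · rw [h1]; exact one_mem Z
    obtain ⟨g, hg⟩ := isConj_iff.mp (hconj v x hv1 hv2 h1 hx)
    exact hg ▸ hZn.conj_mem v hvZ g
  let V : Subgroup G :=
    { carrier := {x | x ^ 2 = 1}
      one_mem' := one_pow 2
      mul_mem' := fun {x y} hx hy => by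
        show (x * y) ^ 2 = 1
        rw [(show Commute x y from (mem_centralizer_iff.mp (hall y hy).2 x (hall x hx).1)).mul_pow, show x ^ 2 = 1 from hx,
          show y ^ 2 = 1 from hy, one_mul]
      inv_mem' := fun {x} hx => by show x⁻¹ ^ 2 = 1; rw [inv_pow, show x ^ 2 = 1 from hx, inv_one] }
  have hV : ∀ x : G, x ^ 2 = 1 ↔ x ∈ V := fun x => Iff.rfl
  have hVM : V ≤ M := fun x hx => (hall x hx).1
  have hMV : M ≤ centralizer (V : Set G) := fun m hm => mem_centralizer_iff.mpr fun x hx =>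
    (mem_centralizer_iff.mp (hall x hx).2 m hm).symm
  obtain ⟨n, hn⟩ := (hMp.to_le hVM).exists_card_eq
  have hn2 : 2 ≤ n := by
    by_contra hlt
    have hle : Nat.card V ≤ 2 := hn ▸ Nat.pow_le_pow_right (by norm_num) (show n ≤ 1 by omega)
    have h3 : ({1, x₀, y₀} : Set G).ncard ≤ (V : Set G).ncard := by
      refine Set.ncard_le_ncard ?_ (Set.toFinite _)
      rintro x (rfl | rfl | rfl)
      exacts [one_pow 2, hx₀2, hy₀2]
    rw [Set.ncard_eq_three.mpr ⟨1, x₀, y₀, Ne.symm hx₀, Ne.symm hy₀, hxy₀, rfl⟩,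
      ← Nat.card_coe_set_eq] at h3
    have : Nat.card ((V : Set G)) = Nat.card V := rfl
    omega
  suffices hi : M.index.Coprime 2 by
    refine PCore.pLengthLE_succ_of_isPGroup_ker (k := 0) (QuotientGroup.mk' M)
      (QuotientGroup.mk'_surjective M) (QuotientGroup.ker_mk' M).le ?_
    exact PCore.pLengthLE_zero_iff.mpr hi
  by_contra hi
  have hK0 : pPrimeCore 2 (G ⧸ M) ≠ ⊥ := by
    intro hK0
    apply hi
    have hsub : Subsingleton (G ⧸ M) := by
      by_contra hns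
      haveI : Nontrivial (G ⧸ M) := not_subsingleton_iff_nontrivial.mp hns
      rcases PCore.pCore_ne_bot_or_pPrimeCore_ne_bot (PCore.isPSolvable_quotient hsolv M) with h | h
      · exact h PCore.pCore_quotient_self_eq_bot
      · exact h hK0
    have : M.index = 1 := Nat.card_eq_one_iff_unique.mpr ⟨hsub, inferInstance⟩
    rw [this]; exact Nat.coprime_one_left 2
  set K := (pPrimeCore 2 (G ⧸ M)).comap (QuotientGroup.mk' M) with hK
  haveI hKn : K.Normal := (PCore.pPrimeCore_normal (p := 2) (G := G ⧸ M)).comap _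
  have hMK : M ≤ K := fun m hm => by
    rw [hK, mem_comap]
    have : QuotientGroup.mk' M m = 1 := (QuotientGroup.eq_one_iff m).mpr hm
    rw [this]; exact one_mem _
  have hrel : (M.relIndex K).Coprime 2 := by
    rw [hK, PCore.relIndex_comap_mk']
    exact PCore.coprime_card_pPrimeCore
  obtain ⟨k, hk⟩ := hMp.exists_card_eq
  obtain ⟨L, hL⟩ := exists_right_complement'_of_coprime (N := M.subgroupOf K)
    (by rw [Nat.card_congr (subgroupOfEquivOfLe hMK).toEquiv, hk]
        exact Nat.Coprime.pow_left k hrel.symm)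
  set Q := L.map K.subtype with hQ
  have hQcard : Nat.card Q = M.relIndex K := by
    rw [hQ, card_map_of_injective K.subtype_injective, ← hL.symm.index_eq_card]
    rfl
  have hQK : Q ≤ K := map_subtype_le L
  have hKMQ : K = Q ⊔ M := by
    refine le_antisymm (fun x hx => ?_) (sup_le hQK hMK)
    have h2 : (⟨x, hx⟩ : K) ∈ L ⊔ M.subgroupOf K := by
      rw [sup_comm, hL.sup_eq_top]; trivial
    have h3 := mem_map_of_mem K.subtype h2
    rw [Subgroup.map_sup] at h3
    exact (sup_le_sup le_rfl (map_comap_le K.subtype M)) h3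
  have hQc : (Nat.card Q).Coprime 2 := hQcard ▸ hrel
  have hQodd : Odd (Nat.card Q) := Nat.coprime_two_right.mp hQc
  have hQM : Q ⊓ M = ⊥ := Coprime.disjoint_of_coprime_card (by rw [hk]; exact hQc.pow_right k)
  have hQne : Q ≠ ⊥ := by
    intro h
    apply hK0
    rw [eq_bot_iff]
    intro y hy
    obtain ⟨x, rfl⟩ := QuotientGroup.mk'_surjective M y
    have hx : x ∈ K := hy
    rw [hKMQ, h, bot_sup_eq] at hx
    exact mem_bot.mpr ((QuotientGroup.eq_one_iff x).mpr hx)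
  haveI : Group.IsNilpotent M := hMp.isNilpotent
  set N := normalizer (Q : Set G) with hNdef
  have hfr : ∀ g : G, ∃ m ∈ M, ∃ k ∈ N, g = k * m := by
    intro g
    have hle : MulAut.conj g • Q ≤ Q ⊔ M := by
      rw [← hKMQ]
      intro x hx
      obtain ⟨q, hq, rfl⟩ := hx
      exact hKn.conj_mem q (hQK hq) g
    obtain ⟨m, hm, hmQ⟩ := Coprime.exists_conj_eq_of_le_sup (N := M) (H := Q)
      (K := MulAut.conj g • Q) (by rw [normalizer_eq_top]; exact le_top) hle
      (Coprime.card_conj_smul g Q) (by rw [hk]; exact hQc.pow_right k) (Or.inl inferInstance)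
    have h : MulAut.conj (m⁻¹ * g) • Q = Q := by
      rw [← Coprime.conj_smul_smul, ← hmQ, Coprime.conj_smul_smul, inv_mul_cancel, map_one, one_smul]
    have hk' : m⁻¹ * g ∈ N := by
      refine mem_normalizer_iff''.mpr fun a => ?_
      conv_lhs => rw [← h]
      rw [Coprime.mem_conj_smul_iff]
    refine ⟨(m⁻¹ * g)⁻¹ * m * (m⁻¹ * g), ?_, m⁻¹ * g, hk', by group⟩
    have := hMn.conj_mem m hm (m⁻¹ * g)⁻¹
    rwa [inv_inv] at this
  have hindex : M.index = M.relIndex N := by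
    rw [PCore.relIndex_eq_card_map_mk', show N.map (QuotientGroup.mk' M) = ⊤ from ?_, card_top]
    · rfl
    rw [eq_top_iff]
    intro y _
    obtain ⟨g, rfl⟩ := QuotientGroup.mk'_surjective M y
    obtain ⟨m, hm, k', hk', rfl⟩ := hfr g
    refine ⟨k', hk', ?_⟩
    rw [map_mul, show QuotientGroup.mk' M m = 1 from (QuotientGroup.eq_one_iff m).mpr hm, mul_one]
  -- `Q` centralises every involution
  have hQV : Q ≤ centralizer (V : Set G) := by
    by_cases hC : ∃ x, x ≠ 1 ∧ x ^ 2 = 1 ∧ x ∈ centralizer (K : Set G)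
    · obtain ⟨x, hx1, hx2, hxK⟩ := hC
      intro q hq
      refine mem_centralizer_iff.mpr fun y hy => ?_
      by_cases hy1 : y = 1
      · simp [hy1]
      obtain ⟨g, hg⟩ := isConj_iff.mp (hconj x y hx1 hx2 hy1 hy)
      haveI := hKn
      have hyK : y ∈ centralizer (K : Set G) := hg ▸ (normal_centralizer (H := K)).conj_mem x hxK g
      exact (mem_centralizer_iff.mp hyK q (hQK hq)).symm
    exfalso
    apply hi
    rw [Nat.coprime_comm, Nat.prime_two.coprime_iff_not_dvd, hindex]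
    intro h2
    obtain ⟨x, hx⟩ := exists_prime_orderOf_dvd_card' (G := N) 2
      (h2.trans (relIndex_dvd_card M N))
    have hxo : orderOf (x : G) = 2 := by rwa [orderOf_submonoid]
    have hx2 : (x : G) ^ 2 = 1 := by rw [← hxo]; exact pow_orderOf_eq_one _
    refine hC ⟨x, fun h => by rw [h, orderOf_one] at hxo; omega, hx2,
      mem_centralizer_iff.mpr fun y hy => ?_⟩
    have hle : K ≤ centralizer ({(x : G)} : Set G) := by
      rw [hKMQ]
      refine sup_le (fun q hq => ?_) fun m hm => ?_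
      · rw [mem_centralizer_singleton_iff]
        have h1 : (x : G) * q * (x : G)⁻¹ * q⁻¹ ∈ Q :=
          mul_mem ((mem_normalizer_iff.mp x.2 q).mp hq) (inv_mem hq)
        have h3 : (x : G) * q * (x : G)⁻¹ * q⁻¹ ∈ M := by
          have := mul_mem (hall _ hx2).1 (hMn.conj_mem _ (inv_mem (hall _ hx2).1) q)
          simpa [mul_assoc] using this
        have h4 := (Subgroup.eq_bot_iff_forall _).mp hQM _ ⟨h1, h3⟩
        exact (mul_inv_eq_iff_eq_mul.mp (mul_inv_eq_one.mp h4)).symm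
      · exact mem_centralizer_singleton_iff.mpr (mem_centralizer_iff.mp (hall _ hx2).2 m hm)
    exact mem_centralizer_singleton_iff.mp (hle hy)
  have hVN : V ≤ N := fun x hx => (centralizer_le_normalizer (Q : Set G))
    (mem_centralizer_iff.mpr fun q hq => (mem_centralizer_iff.mp (hQV hq) x hx).symm)
  have hNtop : N ≠ ⊤ := fun htop => by
    haveI : Q.Normal := normalizer_eq_top_iff.mp htop
    exact hQne (le_bot_iff.mp (hbot ▸ PCore.le_pPrimeCore hQc))
  have hNlen : PLengthLE 2 1 N := by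
    refine ih N hNtop (fun x y hx1 hx2 hy1 hy2 => ?_) ⟨⟨x₀, hVN hx₀2⟩, ⟨y₀, hVN hy₀2⟩,
      fun h => hx₀ (congrArg Subtype.val h), fun h => hy₀ (congrArg Subtype.val h),
      fun h => hxy₀ (congrArg Subtype.val h), Subtype.ext hx₀2, Subtype.ext hy₀2,
      Subtype.ext (mem_centralizer_iff.mp (hall _ hy₀2).2 x₀ (hall _ hx₀2).1)⟩
    have hxV : (x : G) ^ 2 = 1 := congrArg Subtype.val hx2
    obtain ⟨g, hg⟩ := isConj_iff.mp (hconj (x : G) y (fun h => hx1 (Subtype.ext h)) hxV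
      (fun h => hy1 (Subtype.ext h)) (congrArg Subtype.val hy2))
    obtain ⟨m, hm, k', hk', rfl⟩ := hfr g
    refine isConj_iff.mpr ⟨⟨k', hk'⟩, Subtype.ext ?_⟩
    show k' * (x : G) * k'⁻¹ = y
    rw [← hg, show k' * m * (x : G) * (k' * m)⁻¹ = k' * (m * x * m⁻¹) * k'⁻¹ by group,
      ← mem_centralizer_iff.mp (hMV hm) _ hxV, mul_inv_cancel_right]
  -- the structure of `N`
  set O := pPrimeCore 2 N with hO
  set U2 := (upperPSeries 2 N 2).1 with hU2
  haveI hU2n : U2.Normal := (upperPSeries 2 N 2).2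
  have hOU : O ≤ U2 := by
    rw [hU2, PCore.upperPSeries_two]; exact PCore.pPrimeCore_le_pPrimePCore
  obtain ⟨e, he⟩ : ∃ e, O.relIndex U2 = 2 ^ e := by
    rw [hU2, PCore.upperPSeries_two]; exact PCore.relIndex_pPrimePCore
  have hU2i : U2.index.Coprime 2 := by
    have h := PCore.relIndex_upperPSeries_of_even (p := 2) (G := N) (n := 2) even_two
    rwa [show (upperPSeries 2 N (2 + 1)).1 = ⊤ from hNlen, relIndex_top_right] at h
  obtain ⟨T⟩ := (inferInstance : Nonempty (Sylow 2 N))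
  obtain ⟨t, ht⟩ := T.isPGroup'.exists_card_eq
  have hTU : (T : Subgroup N) ≤ U2 := by
    rw [← relIndex_eq_one]
    refine Nat.eq_one_of_dvd_coprimes ((hU2i.pow_right t).symm) ?_ ?_
    · exact ht ▸ relIndex_dvd_card U2 T
    · exact relIndex_dvd_index_of_normal _ _
  have hOc : (Nat.card O).Coprime 2 := PCore.coprime_card_pPrimeCore
  have hTO : (T : Subgroup N) ⊓ O = ⊥ := Coprime.disjoint_of_coprime_card (by
    rw [ht]; exact (hOc.pow_right t).symm)
  have hsup : (T : Subgroup N) ⊔ O = U2 := by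
    refine Subgroup.eq_of_le_of_card_ge (sup_le hTU hOU) ?_
    have h1 := card_sup_of_le_normalizer (A := O) (B := (T : Subgroup N))
      (by rw [normalizer_eq_top]; exact le_top)
    rw [inf_comm, hTO, card_bot, mul_one, sup_comm] at h1
    rw [h1, ht]
    have h2 := Subgroup.card_mul_index (O.subgroupOf U2)
    rw [Nat.card_congr (subgroupOfEquivOfLe hOU).toEquiv, show (O.subgroupOf U2).index = 2 ^ e from he] at h2
    rw [← h2]
    refine Nat.mul_le_mul_left _ (Nat.le_of_dvd (Nat.two_pow_pos t) ?_)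
    rw [← ht, T.card_eq_multiplicity, ← Nat.Prime.pow_dvd_iff_dvd_ordProj Nat.prime_two Nat.card_pos.ne']
    exact (Dvd.intro_left _ h2).trans (card_subgroup_dvd_card U2)
  set TG := (T : Subgroup N).map N.subtype with hTG
  set OG := O.map N.subtype with hOG
  have hTN : TG ≤ N := map_subtype_le _
  have hOGN : OG ≤ N := map_subtype_le _
  set N₁ := N ⊓ normalizer (TG : Set G) with hN₁
  have hdec : ∀ g ∈ N, ∃ o ∈ OG, ∃ k₁ ∈ N₁, g = o * k₁ := by
    intro g hg
    set γ : N := ⟨g, hg⟩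
    have hle : MulAut.conj γ • (T : Subgroup N) ≤ (T : Subgroup N) ⊔ O := by
      rw [hsup]
      intro x hx
      obtain ⟨q, hq, rfl⟩ := hx
      exact hU2n.conj_mem q (hTU hq) γ
    obtain ⟨o, ho, hoT⟩ := Coprime.exists_conj_eq_of_le_sup (N := O) (H := (T : Subgroup N))
      (K := MulAut.conj γ • (T : Subgroup N)) (by rw [normalizer_eq_top]; exact le_top) hle
      (Coprime.card_conj_smul γ _) (by rw [ht]; exact (hOc.pow_right t).symm) (Or.inl inferInstance)
    refine ⟨(o : G), mem_map_of_mem N.subtype ho, (o : G)⁻¹ * g,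
      ⟨N.mul_mem (N.inv_mem o.2) hg, ?_⟩, by group⟩
    have h : MulAut.conj (o⁻¹ * γ) • (T : Subgroup N) = T := by
      rw [← Coprime.conj_smul_smul, ← hoT, Coprime.conj_smul_smul, inv_mul_cancel, map_one, one_smul]
    have hmem : o⁻¹ * γ ∈ normalizer ((T : Subgroup N) : Set N) := by
      refine mem_normalizer_iff''.mpr fun a => ?_
      conv_lhs => rw [← h]
      rw [Coprime.mem_conj_smul_iff]
    exact le_normalizer_map N.subtype (mem_map_of_mem N.subtype hmem)
  have hOV : OG ≤ centralizer (V : Set G) := by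
    rintro _ ⟨o, ho, rfl⟩
    refine mem_centralizer_iff.mpr fun x (hx : x ^ 2 = 1) => ?_
    set c : N := ⟨x, hVN hx⟩ * o * ⟨x, hVN hx⟩⁻¹ * o⁻¹ with hc
    have hcO : c ∈ O := mul_mem ((PCore.pPrimeCore_normal (p := 2) (G := N)).conj_mem o ho _) (inv_mem ho)
    have hcV : (c : G) ^ 2 = 1 := by
      show (c : G) ∈ V
      show x * (o : G) * x⁻¹ * (o : G)⁻¹ ∈ V
      rw [mul_assoc, mul_assoc, ← mul_assoc (o : G)]
      refine mul_mem hx ?_
      show ((o : G) * x⁻¹ * (o : G)⁻¹) ^ 2 = 1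
      rw [conj_pow, inv_pow, hx, inv_one, mul_one, mul_inv_cancel]
    have h1 : (⟨c, hcO⟩ : O) ^ 2 = 1 := Subtype.ext (Subtype.ext hcV)
    have h2 := orderOf_eq_one_iff.mp (Nat.eq_one_of_dvd_coprimes hOc.symm
      (orderOf_dvd_of_pow_eq_one h1) (orderOf_dvd_natCard _))
    have h3 : x * (o : G) * x⁻¹ * (o : G)⁻¹ = 1 :=
      congrArg (Subtype.val ∘ Subtype.val) h2
    exact mul_inv_eq_iff_eq_mul.mp (mul_inv_eq_one.mp h3)
  have htr : ∀ u ∈ V, ∀ w ∈ V, u ≠ 1 → w ≠ 1 → ∃ g ∈ N₁, g * u * g⁻¹ = w := by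
    intro u hu w hw hu1 hw1
    obtain ⟨g, hg⟩ := isConj_iff.mp (hconj u w hu1 hu hw1 hw)
    obtain ⟨m, hm, k', hk', rfl⟩ := hfr g
    obtain ⟨o, ho, k₁, hk₁, rfl⟩ := hdec k' hk'
    refine ⟨k₁, hk₁, ?_⟩
    rw [show o * k₁ * m * u * (o * k₁ * m)⁻¹ = o * (k₁ * (m * u * m⁻¹) * k₁⁻¹) * o⁻¹ by group,
      ← mem_centralizer_iff.mp (hMV hm) u hu, mul_inv_cancel_right] at hg
    have hk₁V : k₁ * u * k₁⁻¹ ∈ V := (hV _).mp (by
      rw [conj_pow, show u ^ 2 = 1 from hu, mul_one, mul_inv_cancel])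
    rwa [← mem_centralizer_iff.mp (hOV ho) _ hk₁V, mul_inv_cancel_right] at hg
  have hTV : TG ≤ centralizer (V : Set G) := by
    have hne : (⊥ : Subgroup G) ≠ V := fun h => hv1 (mem_bot.mp (h ▸ hv2 : v ∈ (⊥ : Subgroup G)))
    have hconjV : ∀ g x : G, x ∈ V → g * x * g⁻¹ ∈ V := fun g x hx => (hV _).mp (by
      rw [conj_pow, show x ^ 2 = 1 from hx, mul_one, mul_inv_cancel])
    obtain ⟨y, hy, hy1, hfix⟩ := exists_fixed_layer (T.isPGroup'.map N.subtype) (hMp.to_le hVM)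
      bot_le hne (fun t _ y hy => hconjV t y hy)
      (fun t _ a ha => by rw [mem_bot.mp ha, mul_one, mul_inv_cancel]; exact one_mem _)
      (fun y _ a ha => by rw [mem_bot.mp ha, mul_one, mul_inv_cancel]; exact one_mem _)
    intro τ hτ
    refine mem_centralizer_iff.mpr fun w hw => ?_
    by_cases hw1 : w = 1
    · simp [hw1]
    obtain ⟨g, hg, rfl⟩ := htr y hy w hw (fun h => hy1 (h ▸ one_mem _)) hw1
    have hτ' : g⁻¹ * τ * g ∈ TG := (mem_normalizer_iff''.mp hg.2 τ).mp hτ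
    have h1 : g⁻¹ * τ * g * y * (g⁻¹ * τ * g)⁻¹ = y :=
      (inv_mul_eq_one.mp (mem_bot.mp (hfix _ hτ'))).symm
    calc g * y * g⁻¹ * τ = g * (g⁻¹ * τ * g * y * (g⁻¹ * τ * g)⁻¹) * g⁻¹ * τ := by rw [h1]
      _ = τ * (g * y * g⁻¹) := by group
  have hMNT : M ⊓ N ≤ TG := by
    rintro x ⟨hxM, hxN⟩
    refine ⟨⟨x, hxN⟩, ?_, rfl⟩
    haveI : (M.subgroupOf N).Normal := ⟨fun a ha b => hMn.conj_mem _ ha b⟩
    exact (hMp.comap_subtype (K := N)).le_sylow_of_normal T (show (⟨x, hxN⟩ : N) ∈ M.subgroupOf N from hxM)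
  have hTQ : TG ≤ normalizer (Q : Set G) := hTN
  have hOQ : ∀ o ∈ OG, ∃ q ∈ Q, ∃ m ∈ M ⊓ N, o = q * m := by
    intro o ho
    haveI : (OG.map (QuotientGroup.mk' M)).Normal := ⟨by
      rintro _ ⟨a, ⟨a', ha', rfl⟩, rfl⟩ y
      obtain ⟨g, rfl⟩ := QuotientGroup.mk'_surjective M y
      obtain ⟨m, hm, k', hk', rfl⟩ := hfr g
      rw [map_mul, show QuotientGroup.mk' M m = 1 from (QuotientGroup.eq_one_iff m).mpr hm, mul_one]
      refine ⟨k' * (a' : G) * k'⁻¹, ⟨⟨k', hk'⟩ * a' * ⟨k', hk'⟩⁻¹,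
        (PCore.pPrimeCore_normal (p := 2) (G := N)).conj_mem a' ha' _, rfl⟩, ?_⟩
      rw [map_mul, map_mul, map_inv]; rfl⟩
    have hle : OG.map (QuotientGroup.mk' M) ≤ pPrimeCore 2 (G ⧸ M) := by
      refine PCore.le_pPrimeCore (hOc.coprime_dvd_left ?_)
      rw [hOG, map_map]
      exact card_map_dvd O _
    have hoK : o ∈ K := hle (mem_map_of_mem _ ho)
    rw [hKMQ, ← SetLike.mem_coe, coe_mul_of_left_le_normalizer_right Q M
      (by rw [normalizer_eq_top]; exact le_top)] at hoK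
    obtain ⟨q, hq, m, hm, rfl⟩ := hoK
    refine ⟨q, hq, m, ⟨hm, ?_⟩, rfl⟩
    have := mul_mem (inv_mem (le_normalizer (H := Q) hq)) (hOGN ho)
    rwa [inv_mul_cancel_left] at this
  have hNR : N ≤ normalizer ((⁅Q, TG⁆ : Subgroup G) : Set G) := by
    intro g hg
    obtain ⟨o, ho, k₁, hk₁, rfl⟩ := hdec g hg
    obtain ⟨q, hq, m, hm, rfl⟩ := hOQ o ho
    refine mul_mem (mul_mem (normalizer_commutator_ge_left Q TG hq)
      (normalizer_commutator_ge_right Q TG (hMNT hm))) ?_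
    refine Coprime.mem_normalizer_of_conj_smul_eq ?_
    show (⁅Q, TG⁆ : Subgroup G).map (MulAut.conj k₁).toMonoidHom = ⁅Q, TG⁆
    rw [map_commutator, show Q.map (MulAut.conj k₁).toMonoidHom = Q from
      Coprime.conj_smul_eq_self_of_mem hk₁.1, show TG.map (MulAut.conj k₁).toMonoidHom = TG from
      Coprime.conj_smul_eq_self_of_mem hk₁.2]
  have hR : ¬ (⁅Q, TG⁆ : Subgroup G) ≤ centralizer (M : Set G) := by
    intro hR
    have hR0 : (⁅Q, TG⁆ : Subgroup G) = ⊥ := le_bot_iff.mp (hQM ▸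
      le_inf (Coprime.commutator_le_left_of_le_normalizer hTQ) (hR.trans hcM))
    have hTc : TG ≤ centralizer (Q : Set G) :=
      le_centralizer_iff.mp (commutator_eq_bot_iff_le_centralizer.mp hR0)
    have hTM : TG ≤ M := by
      intro τ hτ
      set π := QuotientGroup.mk' M
      have h1 : π τ ∈ pPrimeCore 2 (G ⧸ M) := by
        refine PCore.centralizer_pPrimeCore_le (PCore.isPSolvable_quotient hsolv M)
          PCore.pCore_quotient_self_eq_bot (mem_centralizer_iff.mpr fun y hy => ?_)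
        obtain ⟨x, rfl⟩ := QuotientGroup.mk'_surjective M y
        have hxK : x ∈ K := hy
        rw [hKMQ, ← SetLike.mem_coe, coe_mul_of_left_le_normalizer_right Q M
          (by rw [normalizer_eq_top]; exact le_top)] at hxK
        obtain ⟨q, hq, m, hm, rfl⟩ := hxK
        rw [map_mul, show π m = 1 from (QuotientGroup.eq_one_iff m).mpr hm, mul_one, ← map_mul,
          ← map_mul, mem_centralizer_iff.mp (hTc hτ) q hq]
      obtain ⟨c, hc⟩ := (T.isPGroup'.map N.subtype) ⟨τ, hτ⟩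
      have h2 : π τ ^ 2 ^ c = 1 := by
        rw [← map_pow, show τ ^ 2 ^ c = 1 from congrArg Subtype.val hc, map_one]
      have h3 : (⟨π τ, h1⟩ : pPrimeCore 2 (G ⧸ M)) ^ 2 ^ c = 1 := Subtype.ext h2
      have h4 := orderOf_eq_one_iff.mp (Nat.eq_one_of_dvd_coprimes
        ((PCore.coprime_card_pPrimeCore (p := 2) (G := G ⧸ M)).pow_right c).symm
        (orderOf_dvd_of_pow_eq_one h3) (orderOf_dvd_natCard _))
      exact (QuotientGroup.eq_one_iff τ).mp (congrArg Subtype.val h4)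
    apply hi
    have hMT : M.subgroupOf N = (T : Subgroup N) := by
      ext x
      exact ⟨fun hx => (mem_map_iff_mem N.subtype_injective).mp (hMNT ⟨hx, x.2⟩),
        fun hx => hTM (mem_map_of_mem N.subtype hx)⟩
    rw [hindex, show M.relIndex N = (T : Subgroup N).index from by rw [← hMT]; rfl, Nat.coprime_comm,
      Nat.prime_two.coprime_iff_not_dvd]
    exact T.not_dvd_index
  exact false_of_config hV hn hn2 hMp hVM hMV hVN le_normalizer hTN inf_le_left
    (T.isPGroup'.map N.subtype) hMNT hQodd le_rfl hNR inf_le_right hQV hTV htr hR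

/-- A finite solvable group with two commuting involutions in which all involutions are conjugate
has 2-length at most one. -/
theorem pLengthLE_one_of_conj {G : Type u} [Group G] [Finite G] [Group.IsSolvable G]
    (hconj : ∀ x y : G, x ≠ 1 → x ^ 2 = 1 → y ≠ 1 → y ^ 2 = 1 → IsConj x y)
    (htwo : ∃ x y : G, x ≠ 1 ∧ y ≠ 1 ∧ x ≠ y ∧ x ^ 2 = 1 ∧ y ^ 2 = 1 ∧ Commute x y) :
    PLengthLE 2 1 G := by
  induction hm : Nat.card G using Nat.strong_induction_on generalizing G with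
  | _ m ih =>
  subst hm
  by_cases hbot : pPrimeCore 2 G = ⊥
  · refine step hconj htwo hbot fun N hN h1 h2 => ?_
    refine ih _ ?_ h1 h2 rfl
    exact lt_of_le_of_ne (Subgroup.card_le_card_group N) fun h => hN (Subgroup.eq_top_of_card_eq N h)
  set O := pPrimeCore 2 G with hO
  set f := QuotientGroup.mk' O with hf
  have hfs : Function.Surjective f := QuotientGroup.mk'_surjective O
  refine PCore.pLengthLE_of_ker_le_pPrimeCore f hfs (QuotientGroup.ker_mk' O).le ?_
  have hOc : (Nat.card O).Coprime 2 := PCore.coprime_card_pPrimeCore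
  have hnot : ∀ x : G, x ≠ 1 → x ^ 2 = 1 → f x ≠ 1 := fun x hx1 hx2 h => by
    have hxO : x ∈ O := (QuotientGroup.eq_one_iff x).mp h
    have h1 : (⟨x, hxO⟩ : O) ^ 2 = 1 := Subtype.ext hx2
    exact hx1 (congrArg Subtype.val (orderOf_eq_one_iff.mp (Nat.eq_one_of_dvd_coprimes hOc.symm
      (orderOf_dvd_of_pow_eq_one h1) (orderOf_dvd_natCard _))))
  have lift : ∀ u : G ⧸ O, u ≠ 1 → u ^ 2 = 1 → ∃ x : G, x ≠ 1 ∧ x ^ 2 = 1 ∧ f x = u := by
    intro u hu1 hu2
    have hdv : 2 ∣ Nat.card ((zpowers u).comap f) := by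
      have h2 : zpowers u ≤ f.range := by rw [MonoidHom.range_eq_top.mpr hfs]; exact le_top
      have := Subgroup.card_map_dvd ((zpowers u).comap f) f
      rwa [Subgroup.map_comap_eq_self h2, Nat.card_zpowers, orderOf_eq_prime hu2 hu1] at this
    obtain ⟨x, hx⟩ := exists_prime_orderOf_dvd_card' 2 hdv
    have hxo : orderOf (x : G) = 2 := by rwa [Subgroup.orderOf_coe]
    have hx2 : (x : G) ^ 2 = 1 := hxo ▸ pow_orderOf_eq_one _
    have hx1 : (x : G) ≠ 1 := fun h => by rw [h, orderOf_one] at hxo; omega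
    refine ⟨x, hx1, hx2, ?_⟩
    rcases eq_one_or_eq_of_mem_zpowers (show f (x : G) ∈ zpowers u from x.2)
      (by rw [← pow_two]; exact hu2) with h | h
    · exact absurd h (hnot _ hx1 hx2)
    · exact h
  obtain ⟨x₀, y₀, hx₀, hy₀, hxy, hx₀2, hy₀2, hcomm⟩ := htwo
  refine ih _ ?_ ?_ ⟨f x₀, f y₀, hnot _ hx₀ hx₀2, hnot _ hy₀ hy₀2, ?_, ?_, ?_, hcomm.map f⟩ rfl
  · rw [card_eq_card_quotient_mul_card_subgroup O]
    exact lt_mul_of_one_lt_right Nat.card_pos ((one_lt_card_iff_ne_bot O).mpr hbot)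
  · intro u w hu1 hu2 hw1 hw2
    obtain ⟨x, hx1, hx2, rfl⟩ := lift u hu1 hu2
    obtain ⟨y, hy1, hy2, rfl⟩ := lift w hw1 hw2
    exact MonoidHom.map_isConj f (hconj x y hx1 hx2 hy1 hy2)
  · intro h
    refine hnot (x₀⁻¹ * y₀) (fun e => hxy (inv_mul_eq_one.mp e)) ?_ (by
      rw [map_mul, map_inv, h, inv_mul_cancel])
    rw [(hcomm.inv_left).mul_pow, inv_pow, hx₀2, hy₀2, inv_one, one_mul]
  · rw [← map_pow, hx₀2, map_one]
  · rw [← map_pow, hy₀2, map_one]

end Cfsg.Agent.TwoLength
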