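import Mathlib.FieldTheory.ChevalleyWarning
import Mathlib.LinearAlgebra.Dimension.Finrank
import Mathlib.Algebra.Module.ZMod

/-!
# An anisotropic quadratic map over `F₂`

A quadratic map `F₂^d → F₂^n` with no non-trivial zero has `d ≤ 2 n` (Chevalley–Warning).
-/

set_option autoImplicit false

namespace Cfsg.Agent.TwoLength

open MvPolynomial

variable {d : ℕ}

/-- A quadratic function is given by a polynomial of degree at most two. -/
theorem exists_poly (f : (Fin d → ZMod 2) → ZMod 2)
    (hadd : ∀ x x' y, f (x + x' + y) - f (x + x') - f y =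
      (f (x + y) - f x - f y) + (f (x' + y) - f x' - f y)) :
    ∃ P : MvPolynomial (Fin d) (ZMod 2), P.totalDegree ≤ 2 ∧ ∀ x, eval x P = f x := by
  classical
  have hf0 : f 0 = 0 := by
    have h := hadd 0 0 0
    simp only [add_zero, sub_self] at h
    linear_combination h
  let B : (Fin d → ZMod 2) → (Fin d → ZMod 2) →+ ZMod 2 := fun y =>
    { toFun := fun x => f (x + y) - f x - f y
      map_zero' := by rw [zero_add, hf0, sub_zero, sub_self]
      map_add' := fun x x' => hadd x x' y }
  have hB : ∀ x y, B y x = f (x + y) - f x - f y := fun x y => rfl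
  let e : Fin d → Fin d → ZMod 2 := fun j => Pi.single j 1
  suffices H : ∀ s : Finset (Fin d), ∃ P : MvPolynomial (Fin d) (ZMod 2), P.totalDegree ≤ 2 ∧
      ∀ x : Fin d → ZMod 2, eval x P = f (∑ j ∈ s, x j • e j) by
    obtain ⟨P, hP, h⟩ := H Finset.univ
    refine ⟨P, hP, fun x => (h x).trans (congrArg f ?_)⟩
    funext i
    simp [e, Finset.sum_apply, Pi.single_apply]
  intro s
  induction s using Finset.induction_on with
  | empty => exact ⟨0, by simp, fun x => by simp [hf0]⟩
  | @insert a s ha ih =>
    obtain ⟨P, hP, h⟩ := ih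
    refine ⟨P + X a * (C (f (e a)) + ∑ j ∈ s, X j * C (B (e a) (e j))), ?_, fun x => ?_⟩
    · refine (totalDegree_add _ _).trans (max_le hP ((totalDegree_mul _ _).trans ?_))
      rw [totalDegree_X]
      show 1 + _ ≤ 1 + 1
      refine Nat.add_le_add le_rfl ((totalDegree_add _ _).trans (max_le (by simp) ?_))
      refine (totalDegree_finset_sum _ _).trans (Finset.sup_le fun j _ => ?_)
      exact (totalDegree_mul _ _).trans (by simp)
    · simp only [map_add, map_mul, eval_X, eval_C, map_sum]
      rw [h, Finset.sum_insert ha]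
      have h2 : x a = 0 ∨ x a = 1 := by
        generalize x a = c
        revert c
        decide
      rcases h2 with hx | hx
      · simp [hx]
      · rw [hx, one_smul, one_mul, add_comm (e a)]
        have h3 := hB (∑ j ∈ s, x j • e j) (e a)
        rw [map_sum] at h3
        have h4 : ∀ j, B (e a) (x j • e j) = x j * B (e a) (e j) := fun j => by
          have : x j = 0 ∨ x j = 1 := by
            generalize x j = c
            revert c
            decide
          rcases this with hj | hj <;> simp [hj]
        simp only [h4] at h3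
        rw [h3]
        ring

/-- The Chevalley–Warning bound. -/
theorem le_two_mul_of_anisotropic {n : ℕ} (f : (Fin d → ZMod 2) → Fin n → ZMod 2)
    (hadd : ∀ x x' y, f (x + x' + y) - f (x + x') - f y =
      (f (x + y) - f x - f y) + (f (x' + y) - f x' - f y))
    (h0 : ∀ x, f x = 0 → x = 0) : d ≤ 2 * n := by
  classical
  by_contra hlt
  have hf0 : f 0 = 0 := by
    have h := hadd 0 0 0
    simp only [add_zero, sub_self] at h
    funext i
    have hi := congrFun h i
    simp only [Pi.sub_apply, Pi.add_apply, Pi.zero_apply] at hi ⊢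
    linear_combination hi
  choose P hP hPe using fun i : Fin n => exists_poly (fun x => f x i) fun x x' y => congrFun (hadd x x' y) i
  have h := char_dvd_card_solutions_of_fintype_sum_lt 2 (f := P) (σ := Fin d) (K := ZMod 2) (by
    calc ∑ i, (P i).totalDegree ≤ ∑ _i : Fin n, 2 := Finset.sum_le_sum fun i _ => hP i
      _ = 2 * n := by simp [mul_comm]
      _ < _ := by rw [Fintype.card_fin]; omega)
  have h1 : Fintype.card {x : Fin d → ZMod 2 // ∀ i, eval x (P i) = 0} = 1 := by
    refine Fintype.card_eq_one_iff.2 ⟨⟨0, fun i => by rw [hPe, hf0]; rfl⟩, fun x => Subtype.ext ?_⟩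
    exact h0 _ (funext fun i => by rw [← hPe]; exact x.2 i)
  simp only [Fintype.card_eq_nat_card] at h h1
  rw [h1] at h
  omega

end Cfsg.Agent.TwoLength
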