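import Cfsg.Agent.Lib.TwoLength.QuadPoly
import Cfsg.Agent.Lib.PGroup.Class2
import Mathlib.GroupTheory.Index
import Mathlib.GroupTheory.QuotientGroup.Finite
import Mathlib.GroupTheory.PGroup

/-!
# Sections with central squares in the subgroup of all involutions

`V = {x | x ^ 2 = 1}` of order `2 ^ n`, `V ≤ P ≤ C(V)`, all squares of `P` in `V`. Then
`|P : V| ≤ 2 ^ (2 n)`; if a group normalising `P` is transitive on `V#` then `|P|` is one of
`2 ^ n`, `2 ^ (2 n)`, `2 ^ (3 n)`.
-/

set_option autoImplicit false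
set_option linter.style.haveILetI false

namespace Cfsg.Agent.TwoLength

open Subgroup
open scoped commutatorElement

variable {G : Type*} [Group G]

/-- `V ≤ P ≤ C(V)` and all squares of `P` lie in `V`. -/
structure IsQuadSection (V P : Subgroup G) : Prop where
  le : V ≤ P
  cent : P ≤ centralizer (V : Set G)
  sq : ∀ x ∈ P, x ^ 2 ∈ V

variable {V P : Subgroup G}

theorem IsQuadSection.comm (h : IsQuadSection V P) {v : G} (hv : v ∈ V) {x : G} (hx : x ∈ P) :
    v * x = x * v := mem_centralizer_iff.1 (h.cent hx) v hv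

theorem IsQuadSection.commutator_mem (h : IsQuadSection V P) {x y : G} (hx : x ∈ P) (hy : y ∈ P) :
    ⁅x, y⁆ ∈ V := by
  have e : ⁅x, y⁆ = x ^ 2 * ((x⁻¹ * y) ^ 2 * (y ^ 2)⁻¹) := by
    rw [commutatorElement_def, pow_two, pow_two, pow_two]; group
  rw [e]
  exact mul_mem (h.sq x hx) (mul_mem (h.sq _ (mul_mem (inv_mem hx) hy)) (inv_mem (h.sq y hy)))

theorem IsQuadSection.sq_mul (h : IsQuadSection V P) {x y : G} (hx : x ∈ P) (hy : y ∈ P) :
    (x * y) ^ 2 = x ^ 2 * y ^ 2 * ⁅x⁻¹, y⁆ := by
  have hc := h.comm (h.commutator_mem (inv_mem hx) hy) (pow_mem hy 2)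
  rw [mul_assoc (x ^ 2), ← hc, commutatorElement_def, pow_two, pow_two, pow_two]
  group

/-- The bound. -/
theorem card_quad_le [Finite G] (hV : ∀ x : G, x ^ 2 = 1 ↔ x ∈ V) {n : ℕ}
    (hn : Nat.card V = 2 ^ n) (h : IsQuadSection V P) :
    ∃ d ≤ 2 * n, Nat.card P = 2 ^ (n + d) := by
  classical
  haveI : (V.subgroupOf P).Normal := ⟨fun v hv g => by
    rw [mem_subgroupOf] at hv ⊢
    have := h.comm hv g.2
    show (g : G) * (v : G) * (g : G)⁻¹ ∈ V
    rw [← this, mul_inv_cancel_right]
    exact hv⟩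
  let Pq := P ⧸ V.subgroupOf P
  have hq2 : ∀ x : Pq, x * x = 1 := by
    intro x
    induction x using QuotientGroup.induction_on with | H g => ?_
    refine (QuotientGroup.eq_one_iff _).2 ?_
    show (g : G) * g ∈ V
    rw [← sq]; exact h.sq g g.2
  have hinv : ∀ x : Pq, x⁻¹ = x := fun x => inv_eq_of_mul_eq_one_left (hq2 x)
  letI : CommGroup Pq :=
    { (inferInstance : Group Pq) with
      mul_comm := fun x y => by
        rw [← hinv (x * y), mul_inv_rev, hinv, hinv] }
  letI : CommGroup V :=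
    { (inferInstance : Group V) with
      mul_comm := fun v w => Subtype.ext (h.comm v.2 (h.le w.2)) }
  have hexpV : ∀ v : Additive V, 2 • v = 0 := fun v => by
    show Additive.ofMul (Additive.toMul v ^ 2) = 0
    rw [show Additive.toMul v ^ 2 = 1 from Subtype.ext ((hV _).2 (Additive.toMul v).2)]
    rfl
  have hexpP : ∀ v : Additive Pq, 2 • v = 0 := fun v => by
    show Additive.ofMul (Additive.toMul v ^ 2) = 0
    rw [sq, hq2]; rfl
  letI := AddCommGroup.zmodModule hexpV
  letI := AddCommGroup.zmodModule hexpP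
  let bV := Module.finBasis (ZMod 2) (Additive V)
  let bP := Module.finBasis (ZMod 2) (Additive Pq)
  set d := Module.finrank (ZMod 2) (Additive Pq) with hd
  set n' := Module.finrank (ZMod 2) (Additive V) with hn'
  have hcV : Nat.card V = 2 ^ n' := by
    rw [show Nat.card V = Nat.card (Additive V) from (Nat.card_congr Additive.ofMul),
      Nat.card_congr bV.equivFun.toEquiv, Nat.card_fun, Nat.card_fin, Nat.card_eq_fintype_card,
      ZMod.card]
  have hnn : n' = n := Nat.pow_right_injective le_rfl (hcV.symm.trans hn)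
  have hcP : Nat.card Pq = 2 ^ d := by
    rw [show Nat.card Pq = Nat.card (Additive Pq) from (Nat.card_congr Additive.ofMul),
      Nat.card_congr bP.equivFun.toEquiv, Nat.card_fun, Nat.card_fin, Nat.card_eq_fintype_card,
      ZMod.card]
  refine ⟨d, hnn ▸ ?_, ?_⟩
  · let s : Pq → V := fun x => ⟨((x.out : P) : G) ^ 2, h.sq _ x.out.2⟩
    have hs : ∀ g : P, s g = ⟨(g : G) ^ 2, h.sq _ g.2⟩ := by
      intro g
      obtain ⟨⟨v, hv⟩, hv'⟩ := QuotientGroup.mk_out_eq_mul (V.subgroupOf P) g
      apply Subtype.ext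
      show (((g : Pq).out : P) : G) ^ 2 = (g : G) ^ 2
      rw [hv']
      show ((g : G) * v) ^ 2 = _
      refine (Commute.mul_pow (h.comm hv g.2).symm 2).trans ?_
      exact (congrArg _ ((hV _).2 hv)).trans (mul_one _)
    have hcent : ∀ x y : P, (⁅(x : G), (y : G)⁆) ∈ centralizer (P : Set G) := fun x y =>
      mem_centralizer_iff.2 fun z hz => (h.comm (h.commutator_mem x.2 y.2) hz).symm
    have hD : ∀ x x' y : Pq,
        s (x * x' * y) / (s (x * x') * s y) =
          (s (x * y) / (s x * s y)) * (s (x' * y) / (s x' * s y)) := by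
      intro x x' y
      induction x using QuotientGroup.induction_on with | H a => ?_
      induction x' using QuotientGroup.induction_on with | H b => ?_
      induction y using QuotientGroup.induction_on with | H c => ?_
      have key : ∀ u w : P, s ((u : Pq) * w) / (s u * s w) =
          ⟨⁅(u : G)⁻¹, (w : G)⁆, h.commutator_mem (inv_mem u.2) w.2⟩ := by
        intro u w
        rw [← QuotientGroup.mk_mul, hs, hs, hs, div_eq_iff_eq_mul']
        apply Subtype.ext
        exact h.sq_mul u.2 w.2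
      show s (((a * b : P) : Pq) * (c : Pq)) / (s ((a * b : P) : Pq) * s (c : Pq)) = _
      rw [key, key, key]
      apply Subtype.ext
      show ⁅((a : G) * b)⁻¹, (c : G)⁆ = ⁅(a : G)⁻¹, (c : G)⁆ * ⁅(b : G)⁻¹, (c : G)⁆
      rw [mul_inv_rev, commutatorElement_mul_left_eq_conj_mul]
      have hz := h.commutator_mem (inv_mem a.2) c.2
      have e := h.comm hz (inv_mem b.2)
      rw [← e, mul_inv_cancel_right]
    let f : (Fin d → ZMod 2) → Fin n' → ZMod 2 := fun x =>
      bV.equivFun (Additive.ofMul (s (Additive.toMul (bP.equivFun.symm x))))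
    refine le_two_mul_of_anisotropic f (fun x x' y => ?_) fun x hx => ?_
    · show bV.equivFun _ - bV.equivFun _ - bV.equivFun _ =
        (bV.equivFun _ - bV.equivFun _ - bV.equivFun _) +
          (bV.equivFun _ - bV.equivFun _ - bV.equivFun _)
      simp only [map_add bP.equivFun.symm]
      simp only [← map_sub bV.equivFun, ← map_add bV.equivFun]
      refine congrArg bV.equivFun ?_
      have := hD (Additive.toMul (bP.equivFun.symm x)) (Additive.toMul (bP.equivFun.symm x'))
        (Additive.toMul (bP.equivFun.symm y))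
      rw [div_mul_eq_div_div, div_mul_eq_div_div, div_mul_eq_div_div] at this
      exact congrArg Additive.ofMul this
    · have h1 : s (Additive.toMul (bP.equivFun.symm x)) = 1 := by
        have := (LinearEquiv.map_eq_zero_iff _).1 hx
        exact Additive.ofMul.injective this
      generalize hy : Additive.toMul (bP.equivFun.symm x) = y at h1
      induction y using QuotientGroup.induction_on with | H g => ?_
      rw [hs] at h1
      have hg : (g : G) ∈ V := (hV _).1 (congrArg Subtype.val h1)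
      have h2 : bP.equivFun.symm x = 0 := by
        apply Additive.toMul.injective
        rw [hy]
        exact (QuotientGroup.eq_one_iff g).2 hg
      exact (LinearEquiv.map_eq_zero_iff _).1 h2
  · rw [Subgroup.card_eq_card_quotient_mul_card_subgroup (V.subgroupOf P),
      Nat.card_congr (subgroupOfEquivOfLe h.le).toEquiv, hn, pow_add, mul_comm (2 ^ n),
      show Nat.card (P ⧸ V.subgroupOf P) = 2 ^ d from hcP]

/-- With a transitive operator group. -/
theorem quad_trichotomy [Finite G] (hV : ∀ x : G, x ^ 2 = 1 ↔ x ∈ V) {n : ℕ}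
    (hn : Nat.card V = 2 ^ n) (hn0 : n ≠ 0) (h : IsQuadSection V P) (L : Subgroup G)
    (hL : ∀ g ∈ L, ∀ x ∈ P, g * x * g⁻¹ ∈ P)
    (htr : ∀ u ∈ V, ∀ v ∈ V, u ≠ 1 → v ≠ 1 → ∃ g ∈ L, g * u * g⁻¹ = v) :
    P = V ∨ (Nat.card P = 2 ^ (2 * n) ∧
      ∀ a ∈ P, ∀ b ∈ P, a ∉ V → b ∉ V → ∃ g ∈ L, (g * a * g⁻¹)⁻¹ * b ∈ V) ∨
    Nat.card P = 2 ^ (3 * n) := by
  classical
  obtain ⟨d, hd, hcard⟩ := card_quad_le hV hn h
  by_cases hd0 : d = 0
  · left
    exact (Subgroup.eq_of_le_of_card_ge h.le (by rw [hcard, hn, hd0, add_zero])).symm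
  right
  haveI := Fintype.ofFinite G
  set D : Finset G := Finset.univ.filter fun x => x ∈ P ∧ x ∉ V with hD
  let Fib : G → Finset G := fun v => D.filter fun x => x ^ 2 = v
  set S : Finset G := Finset.univ.filter fun x => x ∈ V ∧ x ≠ 1 with hS
  have hmaps : ∀ x ∈ D, x ^ 2 ∈ S := by
    intro x hx
    simp only [hD, Finset.mem_filter, Finset.mem_univ, true_and] at hx
    simp only [hS, Finset.mem_filter, Finset.mem_univ, true_and]
    exact ⟨h.sq x hx.1, fun e => hx.2 ((hV x).1 e)⟩
  obtain ⟨v₀, hv₀⟩ : ∃ v, v ∈ V ∧ v ≠ 1 := by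
    have : V ≠ ⊥ := by
      intro hb
      rw [hb, card_bot] at hn
      exact (Nat.one_lt_two_pow hn0).ne hn
    obtain ⟨⟨v, hv⟩, hv1⟩ := Subgroup.ne_bot_iff_exists_ne_one.1 this
    exact ⟨v, hv, fun e => hv1 (Subtype.ext e)⟩
  have hconjV : ∀ g x : G, x ∈ V → g * x * g⁻¹ ∈ V := fun g x hx => (hV _).1 (by
    rw [conj_pow, (hV x).2 hx, mul_one, mul_inv_cancel])
  have hfib : ∀ v ∈ S, (Fib v).card = (Fib v₀).card := by
    intro v hv
    simp only [hS, Finset.mem_filter, Finset.mem_univ, true_and] at hv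
    have hle : ∀ u w : G, u ∈ V → w ∈ V → u ≠ 1 → w ≠ 1 → (Fib u).card ≤ (Fib w).card := by
      intro u w hu hw hu1 hw1
      obtain ⟨g, hg, hgu⟩ := htr u hu w hw hu1 hw1
      refine Finset.card_le_card_of_injOn (fun x => g * x * g⁻¹) (fun x hx => ?_)
        fun x _ y _ hxy => mul_left_cancel (mul_right_cancel hxy)
      simp only [Fib, hD, Finset.coe_filter, Finset.mem_filter, Finset.mem_univ, true_and,
        Set.mem_setOf_eq] at hx ⊢
      refine ⟨⟨hL g hg x hx.1.1, fun hc => hx.1.2 ?_⟩, by rw [conj_pow, hx.2, hgu]⟩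
      have := hconjV g⁻¹ _ hc
      rwa [show g⁻¹ * (g * x * g⁻¹) * g⁻¹⁻¹ = x by group] at this
    exact le_antisymm (hle v v₀ hv.1 hv₀.1 hv.2 hv₀.2) (hle v₀ v hv₀.1 hv.1 hv₀.2 hv.2)
  have hDcard : D.card + 2 ^ n = 2 ^ (n + d) := by
    rw [← hcard, ← hn, Nat.card_eq_fintype_card, Nat.card_eq_fintype_card, Fintype.card_subtype,
      Fintype.card_subtype, ← Finset.card_union_of_disjoint]
    · congr 1
      ext x
      simp only [hD, Finset.mem_union, Finset.mem_filter, Finset.mem_univ, true_and]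
      exact ⟨fun hx => hx.elim (·.1) (fun hv => h.le hv), fun hx =>
        (em (x ∈ V)).elim Or.inr fun hv => Or.inl ⟨hx, hv⟩⟩
    · rw [Finset.disjoint_left]
      intro x hx
      simp only [hD, Finset.mem_filter, Finset.mem_univ, true_and] at hx ⊢
      exact hx.2
  have hScard : S.card + 1 = 2 ^ n := by
    rw [← hn, Nat.card_eq_fintype_card, Fintype.card_subtype]
    have : S = (Finset.univ.filter fun x => x ∈ V).erase 1 := by
      ext x; simp [hS, and_comm]
    rw [this, Finset.card_erase_add_one]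
    simp [one_mem]
  have hDS : D.card = S.card * (Fib v₀).card := by
    rw [Finset.card_eq_sum_card_fiberwise hmaps, Finset.sum_congr rfl hfib, Finset.sum_const,
      smul_eq_mul]
  have hdvd : n ∣ d := by
    have h1 : 2 ^ n - 1 ∣ 2 ^ n * (2 ^ d - 1) := ⟨(Fib v₀).card, by
      rw [show 2 ^ n - 1 = S.card by omega, ← hDS, Nat.mul_sub_one, ← pow_add]; omega⟩
    have h2 : (2 ^ n - 1).Coprime (2 ^ n) := by
      have := Nat.coprime_self_add_right.2 (Nat.coprime_one_right (2 ^ n - 1))
      rwa [Nat.sub_add_cancel Nat.one_le_two_pow] at this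
    have h3 := Nat.pow_sub_one_gcd_pow_sub_one 2 n d
    rw [Nat.gcd_eq_left (h2.dvd_of_dvd_mul_left h1)] at h3
    have h4 : 2 ^ n = 2 ^ Nat.gcd n d := by
      have := Nat.one_le_two_pow (n := n)
      have := Nat.one_le_two_pow (n := Nat.gcd n d)
      omega
    exact Nat.gcd_eq_left_iff_dvd.1 (Nat.pow_right_injective le_rfl h4).symm
  obtain ⟨k, rfl⟩ := hdvd
  have hk : k = 1 ∨ k = 2 := by
    have : k ≠ 0 := fun e => hd0 (by rw [e, mul_zero])
    have : k ≤ 2 := Nat.le_of_mul_le_mul_left (hd.trans_eq (mul_comm 2 n)) (Nat.pos_of_ne_zero hn0)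
    omega
  rcases hk with rfl | rfl
  · left
    refine ⟨by rw [hcard]; ring_nf, fun a ha b hb haV hbV => ?_⟩
    have hF : (Fib v₀).card = 2 ^ n := by
      have h1 : D.card = S.card * 2 ^ n := by
        rw [mul_one, pow_add] at hDcard
        rw [← hScard] at hDcard ⊢
        rw [Nat.add_one_mul (S.card) (S.card + 1)] at hDcard
        omega
      have hS0 : 0 < S.card := by
        have := Nat.one_lt_two_pow hn0
        omega
      exact Nat.eq_of_mul_eq_mul_left hS0 (hDS.symm.trans h1)
    obtain ⟨g, hg, hga⟩ := htr (a ^ 2) (h.sq a ha) (b ^ 2) (h.sq b hb)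
      (fun e => haV ((hV a).1 e)) (fun e => hbV ((hV b).1 e))
    set c := g * a * g⁻¹ with hc
    have hcP : c ∈ P := hL g hg a ha
    have hcV : c ∉ V := fun hcV => haV (by
      have := hconjV g⁻¹ _ hcV
      rwa [show g⁻¹ * (g * a * g⁻¹) * g⁻¹⁻¹ = a by group] at this)
    have hc2 : c ^ 2 = b ^ 2 := by rw [hc, conj_pow, hga]
    refine ⟨g, hg, ?_⟩
    -- the fibre of `b ^ 2` is the coset `c V`
    set T : Finset G := Finset.univ.filter fun x => c⁻¹ * x ∈ V with hT
    have hsub : T ⊆ Fib (b ^ 2) := by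
      intro x hx
      simp only [hT, Finset.mem_filter, Finset.mem_univ, true_and] at hx
      simp only [Fib, hD, Finset.mem_filter, Finset.mem_univ, true_and]
      have hxe : x = c * (c⁻¹ * x) := by group
      refine ⟨⟨hxe ▸ mul_mem hcP (h.le hx), fun hxV => hcV ?_⟩, ?_⟩
      · rw [show c = x * (c⁻¹ * x)⁻¹ by group]
        exact mul_mem hxV (inv_mem hx)
      · rw [hxe, Commute.mul_pow (h.comm hx hcP).symm, (hV _).2 hx, mul_one, hc2]
    have hTc : T.card = 2 ^ n := by
      rw [← hn, Nat.card_eq_fintype_card, Fintype.card_subtype]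
      refine Finset.card_equiv (Equiv.mulLeft c⁻¹) fun x => ?_
      simp [hT]
    have hFb : (Fib (b ^ 2)).card = 2 ^ n := by
      rw [hfib _ ?_, hF]
      simp only [hS, Finset.mem_filter, Finset.mem_univ, true_and]
      exact ⟨h.sq b hb, fun e => hbV ((hV b).1 e)⟩
    have hb' : b ∈ Fib (b ^ 2) := by
      simp only [Fib, hD, Finset.mem_filter, Finset.mem_univ, true_and]
      exact ⟨⟨hb, hbV⟩, trivial⟩
    rw [← Finset.eq_of_subset_of_card_le hsub (by omega)] at hb'
    simp only [hT, Finset.mem_filter, Finset.mem_univ, true_and] at hb'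
    exact hb'
  · right
    rw [hcard]; ring_nf

end Cfsg.Agent.TwoLength
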